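import Mathlib
import Groth.Agent.FlatCrit.Quotient

/-! Base change of submodules of a module with flat quotient. -/

set_option autoImplicit false
universe u

open TensorProduct

namespace GrFlatLib

section

variable {R R' L L' : Type u} [CommRing R] [CommRing R'] [Algebra R R'] [AddCommGroup L] [Module R L]
  [AddCommGroup L'] [Module R L'] [Module R' L'] [IsScalarTower R R' L'] {f : L →ₗ[R] L'}

theorem tensor_lift_mem_span (hf : IsBaseChange R' f) (N : Submodule R L) (t : R' ⊗[R] N) :
    hf.equiv (N.subtype.baseChange R' t) ∈ Submodule.span R' (f '' N) := by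
  induction t using TensorProduct.induction_on with
  | zero => simp
  | tmul a x =>
    rw [LinearMap.baseChange_tmul, IsBaseChange.equiv_tmul]
    exact Submodule.smul_mem _ a (Submodule.subset_span ⟨x.1, x.2, rfl⟩)
  | add a b ha hb => rw [map_add, map_add]; exact add_mem ha hb

theorem exists_tensor_of_mem_span (hf : IsBaseChange R' f) (N : Submodule R L) {z : L'}
    (hz : z ∈ Submodule.span R' (f '' N)) : ∃ t : R' ⊗[R] N, hf.equiv (N.subtype.baseChange R' t) = z := by
  induction hz using Submodule.span_induction with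
  | mem w hw =>
    obtain ⟨x, hx, rfl⟩ := hw
    exact ⟨1 ⊗ₜ ⟨x, hx⟩, by simp [IsBaseChange.equiv_tmul]⟩
  | zero => exact ⟨0, by simp⟩
  | add a b _ _ ha hb =>
    obtain ⟨s, hs⟩ := ha
    obtain ⟨t, ht⟩ := hb
    exact ⟨s + t, by rw [map_add, map_add, hs, ht]⟩
  | smul c a _ ha =>
    obtain ⟨s, hs⟩ := ha
    exact ⟨c • s, by rw [map_smul, map_smul, hs]⟩

/-- The span of the image of `N` is the kernel of the base change of the quotient map. -/
theorem mem_span_iff (hf : IsBaseChange R' f) (N : Submodule R L) (z : L') :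
    z ∈ Submodule.span R' (f '' N) ↔ LinearMap.lTensor R' N.mkQ (hf.equiv.symm z) = 0 := by
  have hex := lTensor_exact R' (LinearMap.exact_subtype_mkQ N) N.mkQ_surjective
  constructor
  · intro hz
    obtain ⟨t, rfl⟩ := exists_tensor_of_mem_span hf N hz
    rw [LinearEquiv.symm_apply_apply]
    exact (hex _).2 ⟨t, rfl⟩
  · intro hz
    obtain ⟨t, ht⟩ := (hex _).1 hz
    have h := tensor_lift_mem_span hf N t
    rw [show N.subtype.baseChange R' t = hf.equiv.symm z from ht, LinearEquiv.apply_symm_apply] at h
    exact h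

/-- The base change of a quotient. -/
theorem exists_quotient_baseChange (hf : IsBaseChange R' f) (N : Submodule R L) :
    ∃ e : (R' ⊗[R] (L ⧸ N)) ≃ₗ[R'] L' ⧸ Submodule.span R' (f '' N),
      ∀ (a : R') (x : L), e (a ⊗ₜ Submodule.Quotient.mk x) = Submodule.Quotient.mk (a • f x) := by
  let g : L' →ₗ[R'] R' ⊗[R] (L ⧸ N) := N.mkQ.baseChange R' ∘ₗ hf.equiv.symm.toLinearMap
  have hg : Function.Surjective g :=
    (LinearMap.lTensor_surjective R' N.mkQ_surjective).comp hf.equiv.symm.surjective
  have hker : LinearMap.ker g = Submodule.span R' (f '' N) := by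
    ext z
    exact (mem_span_iff hf N z).symm
  refine ⟨((Submodule.quotEquivOfEq _ _ hker.symm).trans (g.quotKerEquivOfSurjective hg)).symm, fun a x => ?_⟩
  rw [LinearEquiv.symm_apply_eq]
  simp only [LinearEquiv.trans_apply, Submodule.quotEquivOfEq_mk, LinearMap.quotKerEquivOfSurjective_apply_mk]
  show _ = N.mkQ.baseChange R' (hf.equiv.symm (a • f x))
  rw [map_smul, IsBaseChange.equiv_symm_apply, map_smul, LinearMap.baseChange_tmul, TensorProduct.smul_tmul',
    smul_eq_mul, mul_one]
  rfl

theorem flat_quotient_baseChange (hf : IsBaseChange R' f) (N : Submodule R L) [Module.Flat R (L ⧸ N)] :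
    Module.Flat R' (L' ⧸ Submodule.span R' (f '' N)) :=
  (exists_quotient_baseChange hf N).elim fun e _ => Module.Flat.of_linearEquiv e.symm

/-- Base change commutes with intersection when the relevant map stays injective. -/
theorem span_inf_eq (hf : IsBaseChange R' f) (N J : Submodule R L)
    (hinj : Function.Injective (LinearMap.lTensor R' (N.map J.mkQ).subtype)) :
    Submodule.span R' (f '' N) ⊓ Submodule.span R' (f '' J) = Submodule.span R' (f '' ↑(N ⊓ J)) := by
  refine le_antisymm (fun z hz => ?_) (le_inf (Submodule.span_mono (Set.image_mono fun x hx => hx.1))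
    (Submodule.span_mono (Set.image_mono fun x hx => hx.2)))
  obtain ⟨t, rfl⟩ := exists_tensor_of_mem_span hf N hz.1
  have h0 : LinearMap.lTensor R' J.mkQ (N.subtype.baseChange R' t) = 0 := by
    have := (mem_span_iff hf J _).1 hz.2
    rwa [LinearEquiv.symm_apply_apply] at this
  let π : N →ₗ[R] N.map J.mkQ := (J.mkQ.domRestrict N).codRestrict _ fun x => Submodule.mem_map_of_mem x.2
  have hπ : Function.Surjective π := fun ⟨y, hy⟩ => by
    obtain ⟨x, hx, rfl⟩ := Submodule.mem_map.1 hy
    exact ⟨⟨x, hx⟩, rfl⟩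
  have h1 : LinearMap.lTensor R' π t = 0 := by
    refine hinj ?_
    rw [map_zero, ← h0, ← LinearMap.lTensor_comp_apply, LinearMap.baseChange_eq_ltensor,
      ← LinearMap.lTensor_comp_apply]
    rfl
  obtain ⟨u, rfl⟩ := (lTensor_exact R' (LinearMap.exact_subtype_ker_map π) hπ t).1 h1
  clear h0 h1 hz
  induction u using TensorProduct.induction_on with
  | zero => simp
  | tmul a x =>
    have hx : J.mkQ x.1.1 = 0 := congrArg Subtype.val x.2
    rw [LinearMap.lTensor_tmul, LinearMap.baseChange_tmul, IsBaseChange.equiv_tmul]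
    exact Submodule.smul_mem _ a (Submodule.subset_span ⟨x.1.1, ⟨x.1.2, (Submodule.Quotient.mk_eq_zero J).1 hx⟩, rfl⟩)
  | add a b ha hb => rw [map_add, map_add, map_add]; exact add_mem ha hb

theorem lTensor_subtype_injective_of_flat_quotient (N : Submodule R L) [Module.Flat R (L ⧸ N)]
    (A : Type u) [AddCommGroup A] [Module R A] : Function.Injective (LinearMap.lTensor A N.subtype) :=
  LinearMap.lTensor_injective_of_exact_of_flat N.mkQ N.mkQ_surjective N.subtype N.injective_subtype
    (LinearMap.exact_subtype_mkQ N) A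

theorem injective_of_flat_sup (N J : Submodule R L) [Module.Flat R (L ⧸ (N ⊔ J))] :
    Function.Injective (LinearMap.lTensor R' (N.map J.mkQ).subtype) := by
  haveI : Module.Flat R ((L ⧸ J) ⧸ N.map J.mkQ) := by
    have h : N.map J.mkQ = (N ⊔ J).map J.mkQ := by
      rw [Submodule.map_sup, show J.map J.mkQ = ⊥ from Submodule.mkQ_map_self J,
        sup_bot_eq]
    rw [h]
    exact Module.Flat.of_linearEquiv (Submodule.quotientQuotientEquivQuotient J (N ⊔ J) le_sup_right)
  exact lTensor_subtype_injective_of_flat_quotient _ R'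

/-- A flat quotient injects into its base change along an injective ring map. -/
theorem mem_of_mem_span (hf : IsBaseChange R' f) (N : Submodule R L) [Module.Flat R (L ⧸ N)]
    (hinj : Function.Injective (algebraMap R R')) {x : L} (hx : f x ∈ Submodule.span R' (f '' N)) : x ∈ N := by
  have h := (mem_span_iff hf N _).1 hx
  rw [IsBaseChange.equiv_symm_apply, LinearMap.lTensor_tmul] at h
  refine (Submodule.Quotient.mk_eq_zero N).1 ?_
  have hi : Function.Injective (LinearMap.rTensor (L ⧸ N) (Algebra.linearMap R R')) :=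
    Module.Flat.rTensor_preserves_injective_linearMap _ hinj
  refine (TensorProduct.lid R (L ⧸ N)).symm.injective (hi ?_)
  simpa using h

end

/-- The kernel of a surjection of flat modules is flat. -/
theorem flat_kernel {A : Type u} [CommRing A] {K E G : Type u} [AddCommGroup K] [Module A K] [AddCommGroup E]
    [Module A E] [AddCommGroup G] [Module A G] (i : K →ₗ[A] E) (v : E →ₗ[A] G) (hi : Function.Injective i)
    (hiv : Function.Exact i v) (hv : Function.Surjective v) [Module.Flat A E] [Module.Flat A G] :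
    Module.Flat A K := by
  refine Module.Flat.iff_lTensor_injective.mpr fun a _ => ?_
  have h1 : Function.Injective (LinearMap.rTensor a i) := by
    rw [← LinearMap.lTensor_inj_iff_rTensor_inj]
    exact LinearMap.lTensor_injective_of_exact_of_flat v hv i hi hiv a
  intro x y hxy
  refine h1 (Module.Flat.lTensor_preserves_injective_linearMap (M := E) a.subtype a.injective_subtype ?_)
  simp only [← LinearMap.comp_apply, LinearMap.lTensor_comp_rTensor]
  rw [← LinearMap.rTensor_comp_lTensor, LinearMap.comp_apply, LinearMap.comp_apply, hxy]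

/-- A finite module over an algebra vanishes if it vanishes on all fibres. -/
theorem subsingleton_of_forall_fiber {A P Q : Type u} [CommRing A] [CommRing P] [Algebra A P] [AddCommGroup Q]
    [Module P Q] [Module A Q] [IsScalarTower A P Q] [Module.Finite P Q]
    (h : ∀ (p : Ideal A) [p.IsPrime], Subsingleton (p.ResidueField ⊗[A] Q)) : Subsingleton Q := by
  rw [← Module.support_eq_empty_iff (R := P)]
  refine Set.eq_empty_iff_forall_notMem.2 fun q hq => ?_
  haveI := Module.mem_support_iff_nontrivial_residueField_tensorProduct q |>.1 hq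
  let p := q.asIdeal.comap (algebraMap A P)
  let φ : p.ResidueField →+* q.asIdeal.ResidueField := Ideal.ResidueField.map p q.asIdeal (algebraMap A P) rfl
  letI : Algebra p.ResidueField q.asIdeal.ResidueField := φ.toAlgebra
  haveI : IsScalarTower A p.ResidueField q.asIdeal.ResidueField := IsScalarTower.of_algebraMap_eq fun x => by
    rw [IsScalarTower.algebraMap_apply A P q.asIdeal.ResidueField, RingHom.algebraMap_toAlgebra]
    exact (Ideal.ResidueField.map_algebraMap p q.asIdeal (algebraMap A P) rfl x).symm
  haveI := h p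
  haveI : Subsingleton (q.asIdeal.ResidueField ⊗[A] Q) :=
    (AlgebraTensorModule.cancelBaseChange A p.ResidueField q.asIdeal.ResidueField q.asIdeal.ResidueField Q).symm
      |>.toEquiv.subsingleton
  let s : q.asIdeal.ResidueField ⊗[A] Q →ₗ[A] q.asIdeal.ResidueField ⊗[P] Q :=
    TensorProduct.lift (((TensorProduct.mk P q.asIdeal.ResidueField Q).restrictScalars₁₂ A A))
  have hs : Function.Surjective s := fun z => by
    induction z using TensorProduct.induction_on with
    | zero => exact ⟨0, map_zero s⟩
    | tmul a x => exact ⟨a ⊗ₜ x, rfl⟩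
    | add a b ha hb =>
      obtain ⟨u, rfl⟩ := ha
      obtain ⟨v, rfl⟩ := hb
      exact ⟨u + v, map_add s u v⟩
  haveI := hs.subsingleton
  exact false_of_nontrivial_of_subsingleton (q.asIdeal.ResidueField ⊗[P] Q)

section Seq

variable (A : Type u) {P L : Type u} [CommRing A] [CommRing P] [Algebra A P] [AddCommGroup L] [Module P L]
  [Module A L] [IsScalarTower A P L]

/-- The sequence of subquotients of two steps of a filtration. -/
theorem exists_sub_seq (K J J' D : Submodule P L) (hJ : J' ≤ J) (hD : D = J ⊓ (K ⊔ J')) :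
    ∃ (i : (J ⧸ D.comap J.subtype) →ₗ[A] L ⧸ (K ⊔ J')) (v : (L ⧸ (K ⊔ J')) →ₗ[A] L ⧸ (K ⊔ J)),
      Function.Injective i ∧ Function.Exact i v ∧ Function.Surjective v := by
  subst hD
  let i : (J ⧸ (J ⊓ (K ⊔ J')).comap J.subtype) →ₗ[P] L ⧸ (K ⊔ J') :=
    Submodule.mapQ _ _ J.subtype fun x hx => hx.2
  let v : (L ⧸ (K ⊔ J')) →ₗ[P] L ⧸ (K ⊔ J) := Submodule.factor (sup_le_sup_left hJ K)
  refine ⟨i.restrictScalars A, v.restrictScalars A, ?_, ?_, Submodule.factor_surjective (sup_le_sup_left hJ K)⟩
  · refine (injective_iff_map_eq_zero _).2 fun x hx => ?_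
    obtain ⟨x, rfl⟩ := Submodule.Quotient.mk_surjective _ x
    rw [Submodule.Quotient.mk_eq_zero]
    exact ⟨x.2, (Submodule.Quotient.mk_eq_zero _).1 hx⟩
  · intro y
    obtain ⟨y, rfl⟩ := Submodule.Quotient.mk_surjective _ y
    constructor
    · intro hy
      obtain ⟨k, hk, j, hj, rfl⟩ := Submodule.mem_sup.1 ((Submodule.Quotient.mk_eq_zero _).1 hy)
      refine ⟨Submodule.Quotient.mk ⟨j, hj⟩, ?_⟩
      show Submodule.Quotient.mk j = _
      rw [Submodule.Quotient.eq]
      exact Submodule.mem_sup_left (by simpa using K.neg_mem hk)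
    · rintro ⟨x, hx⟩
      obtain ⟨x, rfl⟩ := Submodule.Quotient.mk_surjective _ x
      rw [← hx]
      exact (Submodule.Quotient.mk_eq_zero _).2 (Submodule.mem_sup_right x.2)

/-- Flatness of a quotient from a step above. -/
theorem flat_quotient_of_le (D J : Submodule P L) (h : D ≤ J) [Module.Flat A (J ⧸ D.comap J.subtype)]
    [Module.Flat A (L ⧸ J)] : Module.Flat A (L ⧸ D) := by
  let i : (J ⧸ D.comap J.subtype) →ₗ[P] L ⧸ D := Submodule.mapQ _ _ J.subtype le_rfl
  let v : (L ⧸ D) →ₗ[P] L ⧸ J := Submodule.factor h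
  refine FlatCrit.flat_of_extension (i.restrictScalars A) (v.restrictScalars A) ?_ ?_
    (Submodule.factor_surjective h)
  · refine (injective_iff_map_eq_zero _).2 fun x hx => ?_
    obtain ⟨x, rfl⟩ := Submodule.Quotient.mk_surjective _ x
    rw [Submodule.Quotient.mk_eq_zero, Submodule.mem_comap]
    exact (Submodule.Quotient.mk_eq_zero _).1 hx
  · intro y
    obtain ⟨y, rfl⟩ := Submodule.Quotient.mk_surjective _ y
    constructor
    · intro hy
      exact ⟨Submodule.Quotient.mk ⟨y, (Submodule.Quotient.mk_eq_zero _).1 hy⟩, rfl⟩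
    · rintro ⟨x, hx⟩
      obtain ⟨x, rfl⟩ := Submodule.Quotient.mk_surjective _ x
      rw [← hx]
      exact (Submodule.Quotient.mk_eq_zero _).2 x.2

end Seq

end GrFlatLib
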