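import Groth.Agent.GrFlatLib.Map
import Groth.Agent.FlatLib.StageFlat
import Groth.Agent.FlatLib.GenericFree

/-! Flatness of all truncations descends to a finitely generated stage. -/

set_option autoImplicit false
set_option maxHeartbeats 1000000
universe u

open TensorProduct MvPolynomial

noncomputable section

namespace GrFlatLib

variable {ν : Type u} {w : ν → ℕ} {s : ℕ}

theorem Jn_succ_le {A : Type u} [CommRing A] (hw : ∀ v, w v ≤ 1) (n : ℕ) :
    Jn (A := A) (s := s) w (n + 1) ≤ Iw (A := A) w • Jn (A := A) (s := s) w n := by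
  classical
  intro x hx
  have hdec : x = ∑ i, ∑ d ∈ (x i).support, Pi.single i (monomial d (coeff d (x i))) := by
    rw [← Finset.univ_sum_single x]
    refine Finset.sum_congr rfl fun i _ => ?_
    rw [Finset.univ_sum_single x]
    exact (congrArg (Pi.single i) (as_sum (x i))).trans (map_sum (LinearMap.single A (fun _ => MvPolynomial ν A) i) _ _)
  rw [hdec]
  refine sum_mem fun i _ => sum_mem fun d hd => ?_
  have hdn : n + 1 ≤ Finsupp.weight w d :=
    not_lt.1 fun h => MvPolynomial.mem_support_iff.1 hd (hx i d h)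
  obtain ⟨v, hv, hwv⟩ : ∃ v ∈ d.support, w v ≠ 0 := by
    by_contra! h
    have : Finsupp.weight w d = 0 := by
      rw [Finsupp.weight_apply, Finsupp.sum]
      exact Finset.sum_eq_zero fun v hv => by rw [h v hv, smul_zero]
    omega
  have hv1 : w v = 1 := by have := hw v; omega
  have hle : Finsupp.single v 1 ≤ d := Finsupp.single_le_iff.2 (Nat.pos_of_ne_zero (Finsupp.mem_support_iff.1 hv))
  have hwd := weight_sub_add w hle
  rw [Finsupp.weight_single, one_smul, hv1] at hwd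
  have h1 : Pi.single i (monomial d (coeff d (x i))) =
      (X v : MvPolynomial ν A) • (Pi.single i (monomial (d - Finsupp.single v 1) (coeff d (x i))) : Mdl A s ν) := by
    rw [← Pi.single_smul, smul_eq_mul, X, monomial_mul, one_mul, add_tsub_cancel_of_le hle]
  rw [h1]
  refine Submodule.smul_mem_smul (Ideal.subset_span ⟨v, hv1, rfl⟩) fun j e he => ?_
  by_cases hij : j = i
  · subst hij
    rw [Pi.single_eq_same, coeff_monomial]
    split_ifs with h
    · subst h; omega
    · rfl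
  · rw [Pi.single_eq_of_ne hij, coeff_zero]

theorem Iw_pow_smul_top {A : Type u} [CommRing A] (hw : ∀ v, w v ≤ 1) (n : ℕ) :
    Iw (A := A) w ^ n • (⊤ : Submodule (MvPolynomial ν A) (Mdl A s ν)) = Jn w n := by
  induction n with
  | zero => rw [pow_zero, Ideal.one_eq_top, Submodule.top_smul, Jn_zero]
  | succ n ih =>
    rw [pow_succ', Submodule.mul_smul, ih]
    exact le_antisymm (Iw_smul_Jn_le w n) (Jn_succ_le hw n)

theorem Jn_fg {A : Type u} [CommRing A] [Finite ν] (hw : ∀ v, w v ≤ 1) (n : ℕ) :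
    (Jn (A := A) (s := s) w n).FG := by
  rw [← Iw_pow_smul_top hw]
  refine Submodule.FG.smul (Submodule.FG.pow ?_ n) Module.Finite.fg_top
  exact Submodule.fg_span ((Set.toFinite _).image _)

theorem exists_gen_noetherian {A : Type u} [CommRing A] [IsNoetherianRing A] [Finite ν] (hw : ∀ v, w v ≤ 1)
    (K : Submodule (MvPolynomial ν A) (Mdl A s ν)) : ∃ N, ∀ n ≥ N, Gen w K n := by
  obtain ⟨k, hk⟩ := (Iw (A := A) w).exists_pow_inf_eq_pow_smul K
  refine ⟨k, fun n hn => sup_le (le_trans ?_ le_sup_left) le_sup_right⟩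
  intro x hx
  have h2 : x ∈ Iw (A := A) w ^ (n + 1) • (⊤ : Submodule _ (Mdl A s ν)) ⊓ K :=
    ⟨(Iw_pow_smul_top hw (n + 1)).ge hx.2, hx.1⟩
  rw [hk (n + 1) (by omega), show n + 1 - k = (n - k) + 1 by omega, pow_succ', Submodule.mul_smul,
    ← hk n hn, Iw_pow_smul_top hw, inf_comm] at h2
  exact Submodule.smul_mono le_rfl le_sup_left h2

theorem smul_Ld_sup_le {A : Type u} [CommRing A] (K : Submodule (MvPolynomial ν A) (Mdl A s ν)) (n : ℕ) :
    Iw (A := A) w • Ld w K n ⊔ Jn w (n + 2) ≤ Ld w K (n + 1) := by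
  refine sup_le ?_ le_sup_right
  rw [Ld, Submodule.smul_sup]
  refine sup_le (le_trans (le_inf ?_ ?_) le_sup_left) ((Iw_smul_Jn_le w (n + 1)).trans le_sup_right)
  · exact Submodule.smul_le_right.trans inf_le_left
  · exact (Submodule.smul_mono le_rfl inf_le_right).trans (Iw_smul_Jn_le w n)

theorem Iw_smul_bc_le {A B : Type u} [CommRing A] [CommRing B] [Algebra A B]
    (K : Submodule (MvPolynomial ν A) (Mdl A s ν)) : Iw (A := B) w • bc B K ≤ bc B (Iw (A := A) w • K) := by
  refine Submodule.smul_le.2 fun r hr y hy => ?_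
  induction hr using Submodule.span_induction with
  | mem r hr =>
    obtain ⟨v, hv, rfl⟩ := hr

    rw [mem_bc_iff] at hy
    induction hy using Submodule.span_induction with
    | mem y hy =>
      obtain ⟨k, hk, rfl⟩ := hy
      rw [show (X v : MvPolynomial ν B) = MvPolynomial.map (algebraMap A B) (X v) from (map_X _ v).symm, ← fMap_smul]
      exact fMap_mem_bc (Submodule.smul_mem_smul (Ideal.subset_span ⟨v, hv, rfl⟩) hk)
    | zero => rw [smul_zero]; exact zero_mem _
    | add a b _ _ ha hb => rw [smul_add]; exact add_mem ha hb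
    | smul c a _ ha => rw [smul_comm]; exact Submodule.smul_of_tower_mem _ c ha
  | zero => rw [zero_smul]; exact zero_mem _
  | add a b _ _ ha hb => rw [add_smul]; exact add_mem ha hb
  | smul c a _ ha => rw [smul_assoc]; exact Submodule.smul_mem _ c ha

/-- Over all fields at once the leading submodules are generated in bounded weight. -/
theorem exists_gen_fields {R₀ : Type u} [CommRing R₀] [IsNoetherianRing R₀] [Finite ν] (hw : ∀ v, w v ≤ 1)
    (K₀ : Submodule (MvPolynomial ν R₀) (Mdl R₀ s ν)) :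
    ∃ N, ∀ (F : Type u) [Field F] [Algebra R₀ F], ∀ n ≥ N, Gen w (bc F K₀) n := by
  suffices ∀ a : Ideal R₀, ∃ N, ∀ (F : Type u) [Field F] [Algebra R₀ F],
      a ≤ RingHom.ker (algebraMap R₀ F) → ∀ n ≥ N, Gen w (bc F K₀) n by
    obtain ⟨N, hN⟩ := this ⊥
    exact ⟨N, fun F _ _ => hN F bot_le⟩
  intro a
  induction a using IsNoetherian.induction with
  | hgt a ih =>
    by_cases hp : Ideal.IsPrime (a : Ideal R₀)
    · let a : Ideal R₀ := a
      let D := R₀ ⧸ a
      haveI : IsDomain D := Ideal.Quotient.isDomain a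
      obtain ⟨N₁, hN₁⟩ := exists_gen_noetherian hw (bc D K₀)
      obtain ⟨c, hc, hfree⟩ := FlatLib.gfree_of_finite (R := D) (MvPolynomial ν D)
        (Mdl D s ν ⧸ Hd w N₁ (bc D K₀))
      let Dc := Localization.Away c
      haveI : Module.Flat D Dc := IsLocalization.flat Dc (Submonoid.powers c)
      have hinf : ∀ d, bc Dc (bc D K₀) ⊓ Jn w d = bc Dc (bc D K₀ ⊓ Jn w d) := fun d => bc_inf_Jn_of_flat_algebra d
      haveI : Module.Flat Dc (Mdl Dc s ν ⧸ bc Dc (Hd w N₁ (bc D K₀))) := by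
        obtain ⟨e, -⟩ := exists_quotient_baseChange (isBaseChange_fMap (A := D) (s := s) (ν := ν) Dc)
          ((Hd w N₁ (bc D K₀)).restrictScalars D)
        let e' := (AlgebraTensorModule.congr (LinearEquiv.refl Dc Dc)
          (Submodule.Quotient.restrictScalarsEquiv D (Hd w N₁ (bc D K₀)))).symm ≪≫ₗ e ≪≫ₗ
          Submodule.quotEquivOfEq _ _ (restrictScalars_bc (B := Dc) (Hd w N₁ (bc D K₀))).symm ≪≫ₗ
          Submodule.Quotient.restrictScalarsEquiv Dc _
        exact Module.Flat.of_linearEquiv e'.symm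
      rw [← Hd_bc N₁ fun d _ => hinf d] at this
      have hgenc : ∀ n ≥ N₁, Gen w (bc Dc (bc D K₀)) n := fun n hn => (hN₁ n hn).bc (hinf _)
      have hT : TFlat w (bc Dc (bc D K₀)) :=
        (flat_quotient_sup_Jn_of_hom w (Hd_hom w N₁ (bc Dc (bc D K₀)))).congr w (fun n => Ld_Hd w hgenc n)
      obtain ⟨c₀, rfl⟩ := Ideal.Quotient.mk_surjective c
      obtain ⟨N₂, hN₂⟩ := ih (a ⊔ Ideal.span {c₀}) (lt_of_le_of_ne le_sup_left fun h => hc
        (Ideal.Quotient.eq_zero_iff_mem.2 (h.ge (Submodule.mem_sup_right (Ideal.mem_span_singleton_self c₀)))))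
      refine ⟨max N₁ N₂, fun F _ _ haF n hn => ?_⟩
      by_cases hcF : algebraMap R₀ F c₀ = 0
      · exact hN₂ F (sup_le haF (Ideal.span_le.2 (Set.singleton_subset_iff.2 hcF))) n
          (le_trans (le_max_right _ _) hn)
      · letI : Algebra D F := (Ideal.Quotient.lift a (algebraMap R₀ F) fun x hx => haF hx).toAlgebra
        haveI : IsScalarTower R₀ D F := IsScalarTower.of_algebraMap_eq fun x => rfl
        letI : Algebra Dc F := (IsLocalization.Away.lift (Ideal.Quotient.mk a c₀) (g := algebraMap D F)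
          (S := Dc) (isUnit_iff_ne_zero.2 hcF)).toAlgebra
        haveI : IsScalarTower D Dc F := IsScalarTower.of_algebraMap_eq fun x =>
          (IsLocalization.Away.lift_eq (Ideal.Quotient.mk a c₀) (g := algebraMap D F) (S := Dc)
            (isUnit_iff_ne_zero.2 hcF) x).symm
        haveI := hT (n + 1)
        have h := (hgenc n (le_trans (le_max_left _ _) hn)).bc (B := F) (bc_inf_Jn_of_flat (n + 1))
        rwa [bc_bc F (bc D K₀), bc_bc F K₀] at h
    · rw [Ideal.not_isPrime_iff] at hp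
      rcases hp with rfl | ⟨x, hx, y, hy, hxy⟩
      · exact ⟨0, fun F _ _ h => absurd (h Submodule.mem_top : (1 : R₀) ∈ _) fun h1 => one_ne_zero
          ((map_one (algebraMap R₀ F)).symm.trans h1)⟩
      · obtain ⟨N₁, hN₁⟩ := ih (a ⊔ Ideal.span {x}) (lt_of_le_of_ne le_sup_left fun h => hx
          (h.ge (Submodule.mem_sup_right (Ideal.mem_span_singleton_self x))))
        obtain ⟨N₂, hN₂⟩ := ih (a ⊔ Ideal.span {y}) (lt_of_le_of_ne le_sup_left fun h => hy
          (h.ge (Submodule.mem_sup_right (Ideal.mem_span_singleton_self y))))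
        refine ⟨max N₁ N₂, fun F _ _ haF n hn => ?_⟩
        have h0 : algebraMap R₀ F x * algebraMap R₀ F y = 0 := by rw [← map_mul]; exact haF hxy
        rcases mul_eq_zero.1 h0 with h | h
        · exact hN₁ F (sup_le haF (Ideal.span_le.2 (Set.singleton_subset_iff.2 h))) n (le_trans (le_max_left _ _) hn)
        · exact hN₂ F (sup_le haF (Ideal.span_le.2 (Set.singleton_subset_iff.2 h))) n (le_trans (le_max_right _ _) hn)

section Stage

open FlatLib in
theorem exists_flat_stage_quotient {R : Type u} [CommRing R] [IsNoetherianRing R] [Finite ν] {A : Type u}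
    [CommRing A] [Algebra R A] (H : Submodule (MvPolynomial ν R) (Mdl R s ν))
    [Module.Flat A (Mdl A s ν ⧸ bc A H)] :
    ∃ F : Finset A, Module.Flat (stg R F) (Mdl (stg R F) s ν ⧸ bc (stg R F) H) := by
  have key : ∀ (B : Type u) [CommRing B] [Algebra R B],
      Nonempty (BC ν R (Mdl R s ν ⧸ H) B ≃ₗ[B] Mdl B s ν ⧸ bc B H) := fun B _ _ => by
    obtain ⟨e, -⟩ := exists_quotient_baseChange (isBaseChange_fMap (A := R) (s := s) (ν := ν) B) (H.restrictScalars R)
    exact ⟨(isBaseChange_inc ν R (Mdl R s ν ⧸ H) B).equiv.symm ≪≫ₗ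
      (AlgebraTensorModule.congr (LinearEquiv.refl B B)
        (Submodule.Quotient.restrictScalarsEquiv R H)).symm ≪≫ₗ e ≪≫ₗ
      Submodule.quotEquivOfEq _ _ (restrictScalars_bc (B := B) H).symm ≪≫ₗ
      Submodule.Quotient.restrictScalarsEquiv B _⟩
  obtain ⟨e⟩ := key A
  haveI : Module.Flat A (BC ν R (Mdl R s ν ⧸ H) A) := Module.Flat.of_linearEquiv e
  obtain ⟨F, hF⟩ := exists_flat_stage (σ := ν) (A := R) (M₀ := Mdl R s ν ⧸ H) (R := A)
  obtain ⟨e'⟩ := key (stg R F)
  exact ⟨F, Module.Flat.of_linearEquiv e'.symm⟩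

theorem injective_map_mkQ (A : Type u) {P L : Type u} [CommRing A] [CommRing P] [Algebra A P] [AddCommGroup L]
    [Module P L] [Module A L] [IsScalarTower A P L] (U V : Submodule P L) (h : V ≤ U) [Module.Flat A (L ⧸ U)]
    (Y : Type u) [AddCommGroup Y] [Module A Y] :
    Function.Injective (LinearMap.lTensor Y ((U.map V.mkQ).subtype.restrictScalars A)) := by
  let g : U.map V.mkQ →ₗ[A] L ⧸ V := (U.map V.mkQ).subtype.restrictScalars A
  let v : (L ⧸ V) →ₗ[A] L ⧸ U := (Submodule.factor h).restrictScalars A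
  have hv : Function.Surjective v := Submodule.factor_surjective h
  have hg : Function.Injective g := Submodule.injective_subtype _
  have hex : Function.Exact g v := fun y => by
    obtain ⟨y, rfl⟩ := Submodule.Quotient.mk_surjective _ y
    constructor
    · intro hy
      exact ⟨⟨_, y, (Submodule.Quotient.mk_eq_zero _).1 hy, rfl⟩, rfl⟩
    · rintro ⟨⟨_, x, hx, rfl⟩, hxy⟩
      rw [← hxy]
      exact (Submodule.Quotient.mk_eq_zero _).2 hx
  exact LinearMap.lTensor_injective_of_exact_of_flat v hv g hg hex Y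

end Stage

variable {R₀ : Type u} [CommRing R₀] [IsNoetherianRing R₀] [Finite ν] {A : Type u} [CommRing A] [Algebra R₀ A]

open FlatLib in
theorem Ld_fg (hw : ∀ v, w v ≤ 1) (K₀ : Submodule (MvPolynomial ν R₀) (Mdl R₀ s ν)) (hT : TFlat w (bc A K₀)) (n : ℕ) :
    (Ld w (bc A K₀) n).FG := by
  refine Submodule.FG.sup ?_ (Jn_fg hw (n + 1))
  have h : Module.Flat A (Mdl A s ν ⧸ bc A (K₀ ⊔ Jn w n)) := by rw [bc_sup, bc_Jn]; exact hT n
  obtain ⟨F, hF⟩ := exists_flat_stage_quotient (A := A) (K₀ ⊔ Jn w n)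
  haveI : IsNoetherianRing (stg R₀ F) := isNoetherianRing_of_fg ⟨F, rfl⟩
  rw [bc_sup, bc_Jn] at hF
  rw [← bc_bc A (B := stg R₀ F) K₀, bc_inf_Jn_of_flat n]
  exact bc_fg (IsNoetherian.noetherian _)

/-- Generation of the leading submodules in bounded weight, over the base. -/
theorem gen_of_fields (hw : ∀ v, w v ≤ 1) (K₀ : Submodule (MvPolynomial ν R₀) (Mdl R₀ s ν)) (hT : TFlat w (bc A K₀))
    (n : ℕ) (hgen : ∀ (F : Type u) [Field F] [Algebra R₀ F], Gen w (bc F K₀) n) : Gen w (bc A K₀) n := by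
  let K := bc A K₀
  let U := Ld w K (n + 1)
  let V := Iw (A := A) w • Ld w K n ⊔ Jn w (n + 2)
  have hVU : V ≤ U := smul_Ld_sup_le K n
  let Q := U.map V.mkQ
  haveI : Module.Finite (MvPolynomial ν A) Q := Module.Finite.iff_fg.2 ((Ld_fg hw K₀ hT (n + 1)).map _)
  haveI : Module.Flat A (Mdl A s ν ⧸ U) := flat_quotient_Ld w (hT (n + 1)) (hT (n + 1 + 1))
  suffices Subsingleton Q by
    intro x hx
    exact (Submodule.Quotient.mk_eq_zero V).1
      (congrArg Subtype.val (Subsingleton.elim (⟨V.mkQ x, Submodule.mem_map_of_mem hx⟩ : Q) 0))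
  refine subsingleton_of_forall_fiber (A := A) (P := MvPolynomial ν A) fun p _ => ?_
  let κ := p.ResidueField
  refine ⟨fun a b => ?_⟩
  suffices ∀ z : κ ⊗[A] Q, z = 0 by rw [this a, this b]
  intro z
  induction z using TensorProduct.induction_on with
  | zero => rfl
  | add a b ha hb => rw [ha, hb, add_zero]
  | tmul a q =>
    obtain ⟨_, u, hu, rfl⟩ := q
    refine injective_map_mkQ A U V hVU κ ?_
    rw [map_zero, LinearMap.lTensor_tmul]
    show a ⊗ₜ[A] Submodule.Quotient.mk u = 0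
    have hlift : fMap κ u ∈ bc κ V := by
      haveI := hT (n + 1)
      haveI := hT n
      have h1 : fMap κ u ∈ Ld w (bc κ K) (n + 1) := by
        rw [Ld_bc (bc_inf_Jn_of_flat (n + 1))]
        exact fMap_mem_bc hu
      have hg := hgen κ
      rw [← bc_bc κ (B := A) K₀] at hg
      have h2 := hg h1
      rw [Ld_bc (bc_inf_Jn_of_flat n)] at h2
      refine (?_ : Iw w • bc κ (Ld w K n) ⊔ Jn w (n + 2) ≤ bc κ V) h2
      rw [bc_sup, bc_Jn]
      exact sup_le_sup_right (Iw_smul_bc_le _) _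
    rw [mem_bc_iff] at hlift
    have h3 := (mem_span_iff (isBaseChange_fMap (A := A) (s := s) (ν := ν) κ) (V.restrictScalars A) _).1 hlift
    rw [IsBaseChange.equiv_symm_apply, LinearMap.lTensor_tmul] at h3
    have h4 := congrArg (LinearMap.lTensor κ (Submodule.Quotient.restrictScalarsEquiv A V).toLinearMap) h3
    rw [LinearMap.lTensor_tmul, map_zero] at h4
    rw [show a ⊗ₜ[A] (Submodule.Quotient.mk u : Mdl A s ν ⧸ V) =
      a • ((1 : κ) ⊗ₜ[A] (Submodule.Quotient.mk u : Mdl A s ν ⧸ V)) by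
        rw [TensorProduct.smul_tmul', smul_eq_mul, mul_one]]
    exact (congrArg (a • ·) h4).trans (smul_zero a)

open FlatLib in
theorem flat_stage_mono {F G : Finset A} (hFG : F ⊆ G) (H : Submodule (MvPolynomial ν R₀) (Mdl R₀ s ν))
    (h : Module.Flat (stg R₀ F) (Mdl (stg R₀ F) s ν ⧸ bc (stg R₀ F) H)) :
    Module.Flat (stg R₀ G) (Mdl (stg R₀ G) s ν ⧸ bc (stg R₀ G) H) := by
  letI := (Subalgebra.inclusion (stg_mono (A := R₀) hFG)).toRingHom.toAlgebra
  haveI : IsScalarTower R₀ (stg R₀ F) (stg R₀ G) := IsScalarTower.of_algebraMap_eq fun _ => rfl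
  have h' := flat_bc (B := stg R₀ G) (bc (stg R₀ F) H)
  rwa [bc_bc] at h'

/-- Truncations are flat once the module of leading forms is flat and base changes injectively to the right one. -/
theorem tflat_of_hd_flat {B C : Type u} [CommRing B] [CommRing C] [Algebra B C]
    (hinj : Function.Injective (algebraMap B C)) (N : ℕ) (K : Submodule (MvPolynomial ν B) (Mdl B s ν))
    [hf : Module.Flat B (Mdl B s ν ⧸ Hd w N K)] (hH : bc C (Hd w N K) = Hd w N (bc C K))
    (hLdC : ∀ n, Ld w (Hd w N (bc C K)) n = Ld w (bc C K) n) : TFlat w K := by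
  refine TFlat.congr w (fun n => ?_) (flat_quotient_sup_Jn_of_hom w (Hd_hom w N K))
  refine le_antisymm (Ld_Hd_le w N n) fun x hx => ?_
  obtain ⟨hxJ, k, hk, he⟩ := (mem_Ld w).1 hx
  have hkC : fMap C k ∈ Ld w (bc C K) n :=
    Submodule.mem_sup_left ⟨fMap_mem_bc hk.1, fun i d hd => by rw [coeff_fMap, hk.2 i d hd, map_zero]⟩
  rw [← hLdC] at hkC
  obtain ⟨-, h, hh, heh⟩ := (mem_Ld w).1 hkC
  have hmem : fMap C (comp w n k) ∈ bc C (Hd w N K) := by
    rw [fMap_comp, ← heh, hH]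
    exact Hd_hom w N _ h hh.1 n
  haveI : Module.Flat B (Mdl B s ν ⧸ (Hd w N K).restrictScalars B) :=
    Module.Flat.of_linearEquiv (Submodule.Quotient.restrictScalarsEquiv B (Hd w N K))
  rw [mem_bc_iff, ← Submodule.coe_restrictScalars B (Hd w N K)] at hmem
  have hkH : comp w n k ∈ (Hd w N K).restrictScalars B :=
    mem_of_mem_span (isBaseChange_fMap C) ((Hd w N K).restrictScalars B) hinj hmem
  exact (mem_Ld w).2 ⟨hxJ, comp w n k, ⟨hkH, comp_mem_Jn w n k⟩,
    by rw [comp_comp, if_pos rfl, he]⟩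

open FlatLib in
/-- Flatness of all truncations descends to a subalgebra of finite type. -/
theorem exists_tflat_stage (hw : ∀ v, w v ≤ 1) (K₀ : Submodule (MvPolynomial ν R₀) (Mdl R₀ s ν))
    (hT : TFlat w (bc A K₀)) :
    ∃ S : Subalgebra R₀ A, Algebra.FiniteType R₀ S ∧ TFlat w (bc S K₀) := by
  classical
  obtain ⟨N, hN⟩ := exists_gen_fields hw K₀
  have hgen : ∀ n ≥ N, Gen w (bc A K₀) n := fun n hn => gen_of_fields hw K₀ hT n fun F _ _ => hN F n hn
  have hst : ∀ n, ∃ F : Finset A, Module.Flat (stg R₀ F) (Mdl (stg R₀ F) s ν ⧸ bc (stg R₀ F) (K₀ ⊔ Jn w n)) := by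
    intro n
    haveI : Module.Flat A (Mdl A s ν ⧸ bc A (K₀ ⊔ Jn w n)) := by rw [bc_sup, bc_Jn]; exact hT n
    exact exists_flat_stage_quotient (K₀ ⊔ Jn w n)
  choose Fn hFn using hst
  let F₁ := (Finset.range (N + 1)).biUnion Fn
  let S₁ := stg R₀ F₁
  haveI : IsNoetherianRing S₁ := isNoetherianRing_of_fg ⟨F₁, rfl⟩
  have hS₁ : ∀ d ≤ N, Module.Flat S₁ (Mdl S₁ s ν ⧸ (bc S₁ K₀ ⊔ Jn w d)) := fun d hd => by
    have h := flat_stage_mono (Finset.subset_biUnion_of_mem Fn (Finset.mem_range.2 (Nat.lt_succ_of_le hd)))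
      (K₀ ⊔ Jn w d) (hFn d)
    rwa [bc_sup, bc_Jn] at h
  let H₁ := Hd w N (bc S₁ K₀)
  have hKA : bc A (bc S₁ K₀) = bc A K₀ := bc_bc A K₀
  have hHA : bc A H₁ = Hd w N (bc A K₀) := by
    rw [← hKA]
    exact (Hd_bc N fun d hd => haveI := hS₁ d hd; bc_inf_Jn_of_flat d).symm
  have hLdA := Ld_Hd w hgen
  haveI : Module.Flat A (Mdl A s ν ⧸ bc A H₁) := by
    rw [hHA]
    exact flat_of_hom_of_tflat w (Hd_hom w N _) (TFlat.congr w (fun n => (hLdA n).symm) hT)
  obtain ⟨F₂, hF₂⟩ := exists_flat_stage_quotient (R := S₁) (A := A) H₁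
  let S₂ := stg S₁ F₂
  have hS₂ : ∀ d ≤ N, Module.Flat S₂ (Mdl S₂ s ν ⧸ (bc S₂ K₀ ⊔ Jn w d)) := fun d hd => by
    haveI := hS₁ d hd
    have h := flat_bc (B := S₂) (bc S₁ K₀ ⊔ Jn w d)
    rwa [bc_sup, bc_bc, bc_Jn] at h
  have hH2 : bc S₂ H₁ = Hd w N (bc S₂ K₀) := by
    rw [← bc_bc S₂ (B := S₁) K₀]
    exact (Hd_bc N fun d hd => haveI := hS₁ d hd; bc_inf_Jn_of_flat d).symm
  rw [hH2] at hF₂
  have hH2A : bc A (Hd w N (bc S₂ K₀)) = Hd w N (bc A K₀) := by rw [← hH2, bc_bc, hHA]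
  have hT₂ : TFlat w (bc S₂ K₀) := tflat_of_hd_flat (C := A) Subtype.val_injective N _ (by rw [bc_bc]; exact hH2A) (by rw [bc_bc]; exact hLdA)
  haveI : Algebra.FiniteType R₀ S₁ := Subalgebra.fg_iff_finiteType _ |>.1 ⟨F₁, rfl⟩
  haveI : Algebra.FiniteType S₁ S₂ := Subalgebra.fg_iff_finiteType _ |>.1 ⟨F₂, rfl⟩
  refine ⟨S₂.restrictScalars R₀, (Algebra.FiniteType.trans (R := R₀) (S := S₁) (A := S₂) inferInstance inferInstance : _), ?_⟩
  exact hT₂

end GrFlatLib
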