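import Groth.Agent.GrFlatLib.Model
import Groth.Agent.RichLib.FlatColimit

/-! Flatness of the graded module in a limit. -/

set_option autoImplicit false
set_option maxHeartbeats 1000000
universe u

open TensorProduct

noncomputable section

namespace GrFlatLib

theorem flat_truncations_iff_exists_stage {A₀ : Type u} [CommRing A₀]
    {ι : Type u} [Preorder ι] (G : ι → Type u) [∀ i, CommRing (G i)] [∀ i, Algebra A₀ (G i)]
    (g : ∀ i j, i ≤ j → G i →ₐ[A₀] G j)
    (A : Type u) [CommRing A] [Algebra A₀ A] [∀ i, Algebra (G i) A] [∀ i, IsScalarTower A₀ (G i) A]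
    (hcolim : FlatCA.IsDirectedColimitRing G (fun i j h => (g i j h).toRingHom) A)
    {B₀ : Type u} [CommRing B₀] [Algebra A₀ B₀] [Algebra.FinitePresentation A₀ B₀]
    (J₀ : Ideal B₀) (hJ₀ : J₀.FG)
    (M₀ : Type u) [AddCommGroup M₀] [Module B₀ M₀] [Module A₀ M₀] [IsScalarTower A₀ B₀ M₀]
    [Module.FinitePresentation B₀ M₀] :
    (∀ k : ℕ, Module.Flat A ((A ⊗[A₀] M₀) ⧸
        LinearMap.range (((J₀ ^ k • (⊤ : Submodule B₀ M₀)).restrictScalars A₀).subtype.baseChange A))) ↔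
      ∃ i : ι, ∀ k : ℕ, Module.Flat (G i) ((G i ⊗[A₀] M₀) ⧸
        LinearMap.range (((J₀ ^ k • (⊤ : Submodule B₀ M₀)).restrictScalars A₀).subtype.baseChange (G i))) := by
  obtain ⟨m⟩ := exists_model (A := A₀) J₀ hJ₀ M₀
  letI : Algebra m.R₀ A := Algebra.compHom A (algebraMap m.R₀ A₀)
  haveI : IsScalarTower m.R₀ A₀ A := IsScalarTower.of_algebraMap_eq fun _ => rfl
  letI : ∀ i, Algebra m.R₀ (G i) := fun i => Algebra.compHom (G i) (algebraMap m.R₀ A₀)
  haveI : ∀ i, IsScalarTower m.R₀ A₀ (G i) := fun i => IsScalarTower.of_algebraMap_eq fun _ => rfl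
  haveI : ∀ i, IsScalarTower m.R₀ (G i) A := fun i => IsScalarTower.of_algebraMap_eq fun r => by
    show algebraMap A₀ A (algebraMap m.R₀ A₀ r) = algebraMap (G i) A (algebraMap A₀ (G i) (algebraMap m.R₀ A₀ r))
    rw [← IsScalarTower.algebraMap_apply A₀ (G i) A]
  have key : ∀ (C : Type u) [CommRing C] [Algebra A₀ C] [Algebra m.R₀ C] [IsScalarTower m.R₀ A₀ C],
      TFlat m.w (bc C m.K₀) ↔ ∀ k : ℕ, Module.Flat C ((C ⊗[A₀] M₀) ⧸
        LinearMap.range (((J₀ ^ k • (⊤ : Submodule B₀ M₀)).restrictScalars A₀).subtype.baseChange C)) := by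
    intro C _ _ _ _
    refine ⟨fun h k => ?_, fun h k => ?_⟩
    · haveI := h k
      obtain ⟨e⟩ := m.exists_truncEquiv_baseChange k C
      exact Module.Flat.of_linearEquiv e.symm
    · haveI := h k
      obtain ⟨e⟩ := m.exists_truncEquiv_baseChange k C
      exact Module.Flat.of_linearEquiv e
  rw [← key A]
  simp only [← key]
  constructor
  · intro hT
    obtain ⟨S, hS, hTS⟩ := exists_tflat_stage m.hw m.K₀ hT
    haveI : Algebra.FinitePresentation m.R₀ S := Algebra.FinitePresentation.of_finiteType.mp hS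
    obtain ⟨i, θ', -⟩ := RichLib.FlatColimit.exists_algHom_stage (A₀ := m.R₀) (fun i j h => (g i j h).restrictScalars m.R₀)
      hcolim S.val
    refine ⟨i, ?_⟩
    letI := θ'.toRingHom.toAlgebra
    haveI : IsScalarTower m.R₀ S (G i) := IsScalarTower.of_algebraMap_eq fun r => (θ'.commutes r).symm
    rw [← bc_bc (G i) (B := S) m.K₀]
    exact hTS.bc
  · rintro ⟨i, hi⟩
    rw [← bc_bc A (B := G i) m.K₀]
    exact hi.bc

end GrFlatLib
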