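import Groth.Agent.GrFlatLib.Model
import Groth.Agent.FlatLib.OpenFP

/-! Openness of the locus of normal flatness when the graded module is flat over the base. -/

set_option autoImplicit false
set_option maxHeartbeats 1000000
universe u

open TensorProduct MvPolynomial

noncomputable section

namespace GrFlatLib

/-- The criterion for flatness of a localised module after passing to a quotient ring. -/
theorem flat_tensor_localized_iff {B R D : Type u} [CommRing B] [CommRing R] [Algebra B R] [AddCommGroup D]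
    [Module B D] (T : Submonoid B) :
    Module.Flat R (R ⊗[B] LocalizedModule T D) ↔ ∀ (N : Type u) [AddCommGroup N] [Module R N] (N' : Submodule R N)
      (x : (R ⊗[B] D) ⊗[R] N'), N'.subtype.lTensor (R ⊗[B] D) x = 0 →
        ∃ t ∈ Algebra.algebraMapSubmonoid R T, t • x = 0 := by
  let l := LocalizedModule.mkLinearMap T D
  haveI h1 : IsLocalizedModule T (AlgebraTensorModule.rTensor B R l) := inferInstance
  have h : (AlgebraTensorModule.lTensor R R l).restrictScalars B = (TensorProduct.comm B _ R).toLinearMap ∘ₗ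
      AlgebraTensorModule.rTensor B R l ∘ₗ (TensorProduct.comm B R D).toLinearMap := by
    ext a d; rfl
  haveI : IsLocalizedModule T ((AlgebraTensorModule.lTensor R R l).restrictScalars B) := by
    rw [h]
    infer_instance
  haveI := IsLocalizedModule.of_restrictScalars T (AlgebraTensorModule.lTensor R R l)
  exact FlatLib.flat_localized_iff (R := R) (S := R) (Algebra.algebraMapSubmonoid R T)
    (AlgebraTensorModule.lTensor R R l)

variable {A B : Type u} [CommRing A] [CommRing B] [Algebra A B] {J : Ideal B} {M : Type u}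
  [AddCommGroup M] [Module B M] [Module A M] [IsScalarTower A B M] (m : Model A B J M)

namespace Model

/-- The map to the coordinate ring of the centre. -/
def θ : MvPolynomial m.ν A →+* B ⧸ J := (Ideal.Quotient.mk J).comp (m.π : MvPolynomial m.ν A →+* B)

/-- The part of weight zero. -/
def φ₀ : MvPolynomial m.ν A →ₐ[A] MvPolynomial m.ν A :=
  MvPolynomial.aeval fun v => if m.w v = 1 then 0 else X v

theorem π_X_mem {v : m.ν} (hv : m.w v = 1) : m.π (X v) ∈ J :=
  m.map_Iw.le (Ideal.mem_map_of_mem _ (Ideal.subset_span ⟨v, hv, rfl⟩))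

theorem θ_surjective : Function.Surjective m.θ := Ideal.Quotient.mk_surjective.comp m.π_surj

theorem θ_φ₀ (p : MvPolynomial m.ν A) : m.θ (m.φ₀ p) = m.θ p := by
  refine RingHom.congr_fun (MvPolynomial.ringHom_ext (f := m.θ.comp (m.φ₀ : MvPolynomial m.ν A →+* _))
    (g := m.θ) (fun a => by simp [φ₀]) fun v => ?_) p
  by_cases h : m.w v = 1
  · have h0 : m.θ (X v) = 0 := Ideal.Quotient.eq_zero_iff_mem.2 (m.π_X_mem h)
    simp [φ₀, h, h0]
  · simp [φ₀, h]

theorem φ₀_X (v : m.ν) : m.φ₀ (X v) = if m.w v = 1 then 0 else X v := MvPolynomial.aeval_X _ v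

theorem φ₀_C (a : A) : m.φ₀ (C a) = C a := by rw [← algebraMap_eq, AlgHom.commutes]

theorem comp_φ₀_smul (p : MvPolynomial m.ν A) (n : ℕ) (x : Mdl A m.s m.ν) :
    comp m.w n (m.φ₀ p • x) = m.φ₀ p • comp m.w n x := by
  induction p using MvPolynomial.induction_on generalizing n x with
  | C a =>
    rw [← algebraMap_eq, AlgHom.commutes, algebraMap_smul, algebraMap_smul, map_smul]
  | add p q hp hq => rw [map_add, add_smul, map_add, add_smul, hp, hq]
  | mul_X p v hp =>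
    rw [map_mul, mul_smul, hp, mul_smul]
    congr 1
    by_cases h : m.w v = 1
    · simp [φ₀, h]
    · have hv : m.w v = 0 := by have := m.hw v; omega
      have h1 : m.φ₀ (X v) = monomial (Finsupp.single v 1) (1 : A) := by rw [φ₀_X, if_neg h]; rfl
      have h2 : Finsupp.weight m.w (Finsupp.single v 1) = 0 := by simp [Finsupp.weight_single, hv]
      rw [h1, comp_monomial_smul, if_pos (by omega), h2, Nat.sub_zero]

/-- The variables of weight one. -/
abbrev Tv : Type u := {v : m.ν // m.w v = 1}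

/-- The polynomial ring over the centre. -/
abbrev SR : Type u := MvPolynomial m.Tv (B ⧸ J)

/-- The map to the polynomial ring over the centre. -/
def ψ : MvPolynomial m.ν A →+* m.SR :=
  MvPolynomial.eval₂Hom (C.comp (m.θ.comp C)) fun v => if h : m.w v = 1 then X ⟨v, h⟩ else C (m.θ (X v))

theorem ψ_C (a : A) : m.ψ (C a) = C (m.θ (C a)) := MvPolynomial.eval₂Hom_C _ _ a

theorem ψ_X (v : m.ν) : m.ψ (X v) = if h : m.w v = 1 then X ⟨v, h⟩ else C (m.θ (X v)) :=
  MvPolynomial.eval₂Hom_X' _ _ v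

theorem ψ_φ₀ (p : MvPolynomial m.ν A) : m.ψ (m.φ₀ p) = C (m.θ p) := by
  have hc : m.ψ.comp (m.φ₀ : MvPolynomial m.ν A →+* MvPolynomial m.ν A) =
      (C : B ⧸ J →+* m.SR).comp m.θ := MvPolynomial.ringHom_ext (fun a => ?_) fun v => ?_
  · exact RingHom.congr_fun hc p
  · show m.ψ (m.φ₀ (C a)) = C (m.θ (C a))
    rw [φ₀_C, ψ_C]
  · show m.ψ (m.φ₀ (X v)) = C (m.θ (X v))
    rw [φ₀_X]
    by_cases h : m.w v = 1
    · have h0 : m.θ (X v) = 0 := Ideal.Quotient.eq_zero_iff_mem.2 (m.π_X_mem h)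
      rw [if_pos h, map_zero, h0, map_zero]
    · rw [if_neg h, ψ_X, dif_neg h]

theorem ψ_surjective : Function.Surjective m.ψ := fun y => by
  induction y using MvPolynomial.induction_on with
  | C r =>
    obtain ⟨p, rfl⟩ := m.θ_surjective r
    exact ⟨m.φ₀ p, m.ψ_φ₀ p⟩
  | add a b ha hb =>
    obtain ⟨p, rfl⟩ := ha
    obtain ⟨q, rfl⟩ := hb
    exact ⟨p + q, map_add _ _ _⟩
  | mul_X a t ha =>
    obtain ⟨p, rfl⟩ := ha
    exact ⟨p * X t.1, by rw [map_mul, ψ_X, dif_pos t.2]⟩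

/-- The annihilator generated in weight zero. -/
def 𝔞 : Ideal (MvPolynomial m.ν A) := (RingHom.ker m.θ).map m.φ₀

theorem ker_ψ_le : RingHom.ker m.ψ ≤ m.𝔞 := by
  let χ : B ⧸ J →+* MvPolynomial m.ν A ⧸ m.𝔞 := RingHom.liftOfSurjective m.θ m.θ_surjective
    ⟨(Ideal.Quotient.mk m.𝔞).comp (m.φ₀ : MvPolynomial m.ν A →+* _), fun p hp =>
      Ideal.Quotient.eq_zero_iff_mem.2 (Ideal.mem_map_of_mem m.φ₀ hp)⟩
  have hχ : ∀ p, χ (m.θ p) = Ideal.Quotient.mk m.𝔞 (m.φ₀ p) := fun p =>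
    RingHom.liftOfRightInverse_comp_apply _ _ _ _ p
  let back : m.SR →+* MvPolynomial m.ν A ⧸ m.𝔞 :=
    MvPolynomial.eval₂Hom χ fun t => Ideal.Quotient.mk m.𝔞 (X t.1)
  have hback : back.comp m.ψ = Ideal.Quotient.mk m.𝔞 := by
    refine MvPolynomial.ringHom_ext (fun a => ?_) fun v => ?_
    · rw [RingHom.comp_apply, ψ_C]
      show MvPolynomial.eval₂Hom χ _ (C (m.θ (C a))) = _
      rw [MvPolynomial.eval₂Hom_C, hχ, φ₀_C]
    · rw [RingHom.comp_apply, ψ_X]
      by_cases h : m.w v = 1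
      · rw [dif_pos h]
        exact MvPolynomial.eval₂Hom_X' _ _ _
      · rw [dif_neg h]
        show MvPolynomial.eval₂Hom χ _ (C (m.θ (X v))) = _
        rw [MvPolynomial.eval₂Hom_C, hχ, φ₀_X, if_neg h]
  intro p hp
  rw [← Ideal.Quotient.eq_zero_iff_mem, ← hback, RingHom.comp_apply, RingHom.mem_ker.1 hp, map_zero]

/-- Elements of weight zero killing the centre kill the leading forms. -/
theorem φ₀_smul_mem_Hd {N : ℕ} (hgen : ∀ n ≥ N, Gen m.w (bc A m.K₀) n) {p : MvPolynomial m.ν A} (hp : m.θ p = 0)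
    (x : Mdl A m.s m.ν) : m.φ₀ p • x ∈ Hd m.w N (bc A m.K₀) := by
  have key : ∀ n, m.φ₀ p • comp m.w n x ∈ Hd m.w N (bc A m.K₀) := by
    intro n
    set z := comp m.w n x
    obtain ⟨r, hr, hrp⟩ : ∃ r ∈ Iw (A := A) m.w, m.π r = m.π (m.φ₀ p) := by
      have h : m.π (m.φ₀ p) ∈ J := Ideal.Quotient.eq_zero_iff_mem.1 ((m.θ_φ₀ p).trans hp)
      exact (Ideal.mem_map_iff_of_surjective m.π m.π_surj).1 (m.map_Iw.ge h)
    have hker : (m.φ₀ p - r) • z ∈ bc A m.K₀ := (m.g_ker _).1 (by rw [m.g_smul, map_sub, hrp, sub_self, zero_smul])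
    have hz : z ∈ Jn m.w n := comp_mem_Jn _ n x
    have hrz : r • z ∈ Jn m.w (n + 1) := Iw_smul_Jn_le m.w n (Submodule.smul_mem_smul hr hz)
    have hd : m.φ₀ p • z ∈ Ld m.w (bc A m.K₀) n := by
      rw [show m.φ₀ p • z = (m.φ₀ p - r) • z + r • z by rw [sub_smul, sub_add_cancel]]
      exact Submodule.add_mem_sup ⟨hker, sub_smul (m.φ₀ p) r z ▸
        sub_mem (Submodule.smul_mem _ _ hz) (Jn_le m.w n.le_succ hrz)⟩ hrz
    rw [← Ld_Hd m.w hgen] at hd
    obtain ⟨-, h, hh, he⟩ := (mem_Ld m.w).1 hd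
    rw [m.comp_φ₀_smul, comp_comp, if_pos rfl] at he
    rw [← he]
    exact Hd_hom m.w N _ h hh.1 n
  obtain ⟨b, hb⟩ := exists_bound m.w x
  rw [← hb b le_rfl, lo, LinearMap.sum_apply, Finset.smul_sum]
  exact sum_mem fun n _ => key n

theorem Hd_fg (hT : TFlat m.w (bc A m.K₀)) :
    ∃ N, (∀ n ≥ N, Gen m.w (bc A m.K₀) n) ∧ (Hd m.w N (bc A m.K₀)).FG := by
  obtain ⟨N, hN⟩ := exists_gen_fields m.hw m.K₀
  refine ⟨N, fun n hn => gen_of_fields m.hw m.K₀ hT n fun F _ _ => hN F n hn, ?_⟩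
  obtain ⟨S, hS, hTS⟩ := exists_tflat_stage m.hw m.K₀ hT
  haveI : IsNoetherianRing S := Algebra.FiniteType.isNoetherianRing m.R₀ S
  rw [← bc_bc A (B := S) m.K₀, Hd_bc N fun d _ => haveI := hTS d; bc_inf_Jn_of_flat d]
  exact bc_fg (IsNoetherian.noetherian _)

section Graded

variable (n : ℕ)

/-- The graded piece of the module. -/
abbrev Gr : Type u := ↥(J ^ n • (⊤ : Submodule B M)) ⧸ Submodule.comap (J ^ n • (⊤ : Submodule B M)).subtype (J ^ (n + 1) • ⊤)

theorem g_comp_mem (x : Mdl A m.s m.ν) : m.g (comp m.w n x) ∈ (J ^ n • ⊤ : Submodule B M) :=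
  (m.mem_iff n _).2 (Submodule.mem_sup_right (comp_mem_Jn m.w n x))

/-- The class in a graded piece. -/
abbrev mkGr : ↥(J ^ n • (⊤ : Submodule B M)) →ₗ[B] Gr (J := J) (M := M) n := Submodule.mkQ _

/-- The component in one weight. -/
def toGr : Mdl A m.s m.ν →+ (B ⧸ J) ⊗[B] Gr (J := J) (M := M) n where
  toFun x := (1 : B ⧸ J) ⊗ₜ[B] mkGr (J := J) (M := M) n ⟨m.g (comp m.w n x), m.g_comp_mem n x⟩
  map_zero' := by
    have h : (⟨m.g (comp m.w n 0), m.g_comp_mem n 0⟩ : ↥(J ^ n • (⊤ : Submodule B M))) = 0 :=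
      Subtype.ext (by simp)
    rw [h, map_zero, TensorProduct.tmul_zero]
  map_add' x y := by
    rw [← TensorProduct.tmul_add, ← map_add]
    congr 2
    exact Subtype.ext (by simp [map_add])

theorem toGr_φ₀_smul (p : MvPolynomial m.ν A) (x : Mdl A m.s m.ν) :
    m.toGr n (m.φ₀ p • x) = m.θ p • m.toGr n x := by
  show (1 : B ⧸ J) ⊗ₜ[B] mkGr (J := J) (M := M) n _ = m.θ p • ((1 : B ⧸ J) ⊗ₜ[B] mkGr (J := J) (M := M) n _)
  rw [← m.θ_φ₀ p, show m.θ (m.φ₀ p) = algebraMap B (B ⧸ J) (m.π (m.φ₀ p)) from rfl, algebraMap_smul,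
    ← TensorProduct.tmul_smul, ← map_smul]
  congr 2
  refine Subtype.ext ?_
  show m.g (comp m.w n (m.φ₀ p • x)) = m.π (m.φ₀ p) • m.g (comp m.w n x)
  rw [m.comp_φ₀_smul, m.g_smul]

theorem toGr_eq_zero_of_mem {N : ℕ} {x : Mdl A m.s m.ν} (hx : x ∈ Hd m.w N (bc A m.K₀)) : m.toGr n x = 0 := by
  obtain ⟨k, hk, he⟩ := exists_comp_eq_of_mem_Hd m.w hx n
  show (1 : B ⧸ J) ⊗ₜ[B] mkGr (J := J) (M := M) n ⟨m.g _, m.g_comp_mem n _⟩ = 0
  rw [Submodule.mkQ_apply, (Submodule.Quotient.mk_eq_zero _).2, TensorProduct.tmul_zero]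
  show m.g (comp m.w n x) ∈ (J ^ (n + 1) • ⊤ : Submodule B M)
  rw [m.mem_iff, ← he, show comp m.w n k = k + (comp m.w n k - k) by abel]
  exact Submodule.add_mem_sup hk.1 (mem_Jn_succ m.w (sub_mem (comp_mem_Jn m.w n k) hk.2)
    (by rw [map_sub, comp_comp, if_pos rfl, sub_self]))

theorem toGr_X_smul {v : m.ν} (hv : m.w v = 1) (x : Mdl A m.s m.ν) (hx : comp m.w n x = x) :
    m.toGr n ((X v : MvPolynomial m.ν A) • x) = 0 := by
  show (1 : B ⧸ J) ⊗ₜ[B] mkGr (J := J) (M := M) n ⟨m.g _, m.g_comp_mem n _⟩ = 0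
  rw [Submodule.mkQ_apply, (Submodule.Quotient.mk_eq_zero _).2, TensorProduct.tmul_zero]
  show m.g (comp m.w n ((X v : MvPolynomial m.ν A) • x)) ∈ (J ^ (n + 1) • ⊤ : Submodule B M)
  have h : comp m.w n ((X v : MvPolynomial m.ν A) • x) = 0 := by
    rw [X, comp_monomial_smul, Finsupp.weight_single, one_smul, hv]
    split_ifs with h1
    · rw [← hx, comp_comp, if_neg (by omega), smul_zero]
    · rfl
  rw [h, map_zero]
  exact zero_mem _

end Graded

theorem exists_cocycle_lift (n : ℕ) (d : ↥(J ^ n • (⊤ : Submodule B M))) :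
    ∃ x ∈ Jn (A := A) (s := m.s) m.w n, m.g x = d.1 := by
  obtain ⟨x, hx⟩ := m.g_surj d.1
  obtain ⟨k, hk, j, hj, rfl⟩ := Submodule.mem_sup.1 ((m.mem_iff n x).1 (hx ▸ d.2))
  exact ⟨j, hj, by rw [← hx, map_add, (m.g_ker k).2 hk, zero_add]⟩

end Model

end GrFlatLib
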