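import Groth.Agent.GrFlatLib.Locus

/-! Openness of the locus of normal flatness: the graded module over the polynomial ring over the centre. -/

set_option autoImplicit false
set_option maxHeartbeats 1000000
universe u

open TensorProduct MvPolynomial

noncomputable section

namespace GrFlatLib

/-- A quotient by finitely many relations, seen over a quotient of the ring. -/
theorem finitePresentation_of_smul {P S : Type u} [CommRing P] [CommRing S] (ψ : P →+* S)
    (hψ : Function.Surjective ψ) {s : ℕ} (H : Submodule P (Fin s → P)) (hH : H.FG) [Module S ((Fin s → P) ⧸ H)]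
    (hsmul : ∀ (p : P) (y : (Fin s → P) ⧸ H), ψ p • y = p • y) :
    Module.FinitePresentation S ((Fin s → P) ⧸ H) := by
  classical
  let Ψ : (Fin s → S) →ₗ[S] (Fin s → P) ⧸ H :=
    Fintype.linearCombination S fun i => H.mkQ (Pi.single i 1)
  have hΨ : ∀ x : Fin s → P, Ψ (fun i => ψ (x i)) = H.mkQ x := fun x => by
    rw [Fintype.linearCombination_apply]
    refine (Finset.sum_congr rfl fun i _ => (hsmul (x i) _).trans (map_smul H.mkQ (x i) _).symm).trans ?_
    rw [← map_sum, ← pi_eq_sum_univ' x]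
  refine Module.finitePresentation_of_surjective Ψ (fun y => ?_) ?_
  · obtain ⟨x, rfl⟩ := H.mkQ_surjective y
    exact ⟨_, hΨ x⟩
  · obtain ⟨T, hT⟩ := hH
    refine ⟨T.image fun x i => ψ (x i), le_antisymm (Submodule.span_le.2 ?_) fun y hy => ?_⟩
    · intro z hz
      obtain ⟨x, hx, rfl⟩ := Finset.mem_image.1 hz
      rw [SetLike.mem_coe, LinearMap.mem_ker, hΨ, Submodule.mkQ_apply, Submodule.Quotient.mk_eq_zero]
      exact hT.le (Submodule.subset_span hx)
    · choose x hx using fun i => hψ (y i)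
      obtain rfl : y = fun i => ψ (x i) := funext fun i => (hx i).symm
      rw [LinearMap.mem_ker, hΨ, Submodule.mkQ_apply, Submodule.Quotient.mk_eq_zero, ← hT] at hy
      clear hx
      induction hy using Submodule.span_induction with
      | mem z hz => exact Submodule.subset_span (Finset.mem_image_of_mem (fun x i => ψ (x i)) hz)
      | zero => simp only [Pi.zero_apply, map_zero]; exact zero_mem _
      | add a b _ _ ha hb => simp only [Pi.add_apply, map_add]; exact add_mem ha hb
      | smul c a _ ha =>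
        rw [show (fun i => ψ ((c • a) i)) = ψ c • fun i => ψ (a i) from funext fun i => map_mul ψ c (a i)]
        exact Submodule.smul_mem _ _ ha

namespace Model

variable {A B : Type u} [CommRing A] [CommRing B] [Algebra A B] {J : Ideal B} {M : Type u}
  [AddCommGroup M] [Module B M] [Module A M] [IsScalarTower A B M] (m : Model A B J M)

theorem constantCoeff_ψ (p : MvPolynomial m.ν A) : constantCoeff (m.ψ p) = m.θ p := by
  have hc : (constantCoeff : m.SR →+* B ⧸ J).comp m.ψ = m.θ := MvPolynomial.ringHom_ext (fun a => ?_) fun v => ?_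
  · exact RingHom.congr_fun hc p
  · rw [RingHom.comp_apply, ψ_C, constantCoeff_C]
  · rw [RingHom.comp_apply, ψ_X]
    by_cases h : m.w v = 1
    · rw [dif_pos h, constantCoeff_X]
      exact (Ideal.Quotient.eq_zero_iff_mem.2 (m.π_X_mem h)).symm
    · rw [dif_neg h, constantCoeff_C]

theorem toGr_smul (n : ℕ) (p : MvPolynomial m.ν A) {z : Mdl A m.s m.ν} (hz : z ∈ Jn m.w n) :
    m.toGr n (p • z) = m.θ p • m.toGr n z := by
  induction p using MvPolynomial.induction_on generalizing z with
  | C a => rw [← m.φ₀_C a, m.toGr_φ₀_smul, m.θ_φ₀]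
  | add p q hp hq => rw [add_smul, map_add, map_add, add_smul, hp hz, hq hz]
  | mul_X p v hp =>
    rw [mul_smul, hp (Submodule.smul_mem _ _ hz), map_mul, mul_smul]
    congr 1
    by_cases h : m.w v = 1
    · rw [show m.θ (X v) = 0 from Ideal.Quotient.eq_zero_iff_mem.2 (m.π_X_mem h), zero_smul]
      have h' : (X v : MvPolynomial m.ν A) • z ∈ Jn m.w (n + 1) :=
        Iw_smul_Jn_le m.w n (Submodule.smul_mem_smul (Ideal.subset_span ⟨v, h, rfl⟩) hz)
      show (1 : B ⧸ J) ⊗ₜ[B] mkGr (J := J) (M := M) n ⟨m.g _, m.g_comp_mem n _⟩ = 0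
      rw [Submodule.mkQ_apply, (Submodule.Quotient.mk_eq_zero _).2, TensorProduct.tmul_zero]
      show m.g (comp m.w n ((X v : MvPolynomial m.ν A) • z)) ∈ (J ^ (n + 1) • ⊤ : Submodule B M)
      rw [comp_eq_zero_of_mem m.w n.lt_succ_self h', map_zero]
      exact zero_mem _
    · rw [show (X v : MvPolynomial m.ν A) = m.φ₀ (X v) by rw [φ₀_X, if_neg h], m.toGr_φ₀_smul, m.θ_φ₀]

/-- The graded module, with its components. -/
structure GradedModel where
  /-- the module -/
  G : Type u
  [acg : AddCommGroup G]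
  [modS : Module m.SR G]
  [modR : Module (B ⧸ J) G]
  [tower : IsScalarTower (B ⧸ J) m.SR G]
  [fp : Module.FinitePresentation m.SR G]
  /-- the components -/
  i : ∀ n, (B ⧸ J) ⊗[B] Gr (J := J) (M := M) n →ₗ[B ⧸ J] G
  /-- the projections -/
  r : ∀ n, G →ₗ[B ⧸ J] (B ⧸ J) ⊗[B] Gr (J := J) (M := M) n
  r_smul : ∀ n (p : m.SR) x, r n (p • i n x) = constantCoeff p • x
  sum_eq : ∀ y : G, ∃ b, ∀ c ≥ b, ∑ n ∈ Finset.range c, i n (r n y) = y

attribute [instance] GradedModel.acg GradedModel.modS GradedModel.modR GradedModel.tower GradedModel.fp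

theorem exists_gradedModel (hT : TFlat m.w (bc A m.K₀)) : Nonempty m.GradedModel := by
  obtain ⟨N, hgen, hfg⟩ := m.Hd_fg hT
  let H := Hd m.w N (bc A m.K₀)
  let G := Mdl A m.s m.ν ⧸ H
  have hkill : RingHom.ker m.ψ ≤ RingHom.ker (Module.toAddMonoidEnd (MvPolynomial m.ν A) G) := by
    refine m.ker_ψ_le.trans ?_
    rw [𝔞, Ideal.map_le_iff_le_comap]
    intro p hp
    refine RingHom.mem_ker.2 (AddMonoidHom.ext fun y => ?_)
    obtain ⟨x, rfl⟩ := Submodule.Quotient.mk_surjective _ y
    exact (Submodule.Quotient.mk_eq_zero H).2 (m.φ₀_smul_mem_Hd hgen hp x)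
  let σ : m.SR →+* AddMonoid.End G := RingHom.liftOfSurjective m.ψ m.ψ_surjective ⟨_, hkill⟩
  letI : Module m.SR G := Module.compHom G σ
  have hsmul : ∀ (p : MvPolynomial m.ν A) (y : G), m.ψ p • y = p • y := fun p y =>
    DFunLike.congr_fun (show σ (m.ψ p) = Module.toAddMonoidEnd (MvPolynomial m.ν A) G p from
      RingHom.liftOfRightInverse_comp_apply _ _ _ _ p) y
  letI : Module (B ⧸ J) G := Module.compHom G (algebraMap (B ⧸ J) m.SR)
  haveI : IsScalarTower (B ⧸ J) m.SR G := IsScalarTower.of_algebraMap_smul fun _ _ => rfl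
  have hRsmul : ∀ (p : MvPolynomial m.ν A) (x : Mdl A m.s m.ν),
      m.θ p • (Submodule.Quotient.mk x : G) = Submodule.Quotient.mk (m.φ₀ p • x) := fun p x => by
    show algebraMap (B ⧸ J) m.SR (m.θ p) • (Submodule.Quotient.mk x : G) = _
    rw [MvPolynomial.algebraMap_eq, ← m.ψ_φ₀, hsmul, ← Submodule.Quotient.mk_smul]
  -- finite presentation
  haveI : Module.FinitePresentation m.SR G := finitePresentation_of_smul m.ψ m.ψ_surjective H hfg hsmul
  -- components
  letI : Module B G := Module.compHom G (Ideal.Quotient.mk J)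
  haveI : IsScalarTower B (B ⧸ J) G := IsScalarTower.of_algebraMap_smul fun _ _ => rfl
  have huniq : ∀ (n : ℕ) (x y : Mdl A m.s m.ν), x ∈ Jn m.w n → y ∈ Jn m.w n →
      m.g x - m.g y ∈ (J ^ (n + 1) • ⊤ : Submodule B M) →
      (Submodule.Quotient.mk (comp m.w n x) : G) = Submodule.Quotient.mk (comp m.w n y) := by
    intro n x y hx hy hxy
    rw [← map_sub, m.mem_iff] at hxy
    have hd : x - y ∈ Ld m.w (bc A m.K₀) n := (inf_sup_eq_Ld m.w n).le ⟨sub_mem hx hy, hxy⟩
    rw [← Ld_Hd m.w hgen] at hd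
    obtain ⟨-, h, hh, he⟩ := (mem_Ld m.w).1 hd
    rw [Submodule.Quotient.eq, ← map_sub, ← he]
    exact Hd_hom m.w N _ h hh.1 n
  have hi : ∀ n, ∃ i : (B ⧸ J) ⊗[B] Gr (J := J) (M := M) n →ₗ[B ⧸ J] G,
      ∀ (x : Mdl A m.s m.ν) (hx : m.g x ∈ (J ^ n • ⊤ : Submodule B M)), x ∈ Jn m.w n →
        i ((1 : B ⧸ J) ⊗ₜ[B] mkGr (J := J) (M := M) n ⟨m.g x, hx⟩) = Submodule.Quotient.mk (comp m.w n x) := by
    intro n
    choose lift hliftJ hlift using m.exists_cocycle_lift n
    let i₀ : ↥(J ^ n • (⊤ : Submodule B M)) →ₗ[B] G :=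
      { toFun := fun d => Submodule.Quotient.mk (comp m.w n (lift d))
        map_add' := fun d e => by
          rw [← Submodule.Quotient.mk_add, ← map_add]
          refine huniq n _ _ (hliftJ _) (add_mem (hliftJ d) (hliftJ e)) ?_
          rw [map_add, hlift, hlift, hlift, Submodule.coe_add, sub_self]
          exact zero_mem _
        map_smul' := fun b d => by
          obtain ⟨p, rfl⟩ := m.π_surj b
          refine Eq.trans ?_ (hRsmul p _).symm
          rw [← m.comp_φ₀_smul]
          refine huniq n _ _ (hliftJ _) (Submodule.smul_mem _ _ (hliftJ d)) ?_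
          rw [hlift, m.g_smul, hlift, SetLike.val_smul, ← sub_smul, pow_succ', Submodule.mul_smul]
          refine Submodule.smul_mem_smul (Ideal.Quotient.eq.1 ?_) d.2
          exact (m.θ_φ₀ p).symm }
    have hi₀ : ∀ d, d ∈ Submodule.comap (J ^ n • (⊤ : Submodule B M)).subtype (J ^ (n + 1) • ⊤) → i₀ d = 0 := by
      intro d hd
      show (Submodule.Quotient.mk (comp m.w n (lift d)) : G) = 0
      rw [huniq n _ 0 (hliftJ d) (zero_mem _) (by rw [hlift, map_zero, sub_zero]; exact hd), map_zero,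
        Submodule.Quotient.mk_zero]
    refine ⟨LinearMap.liftBaseChange (B ⧸ J) (Submodule.liftQ _ i₀ hi₀), fun x hx hxJ => ?_⟩
    rw [LinearMap.liftBaseChange_tmul, one_smul]
    show (Submodule.Quotient.mk (comp m.w n (lift ⟨m.g x, hx⟩)) : G) = _
    refine huniq n _ _ (hliftJ _) hxJ ?_
    rw [hlift, sub_self]
    exact zero_mem _
  choose i hi using hi
  let r : ∀ n, G →ₗ[B ⧸ J] (B ⧸ J) ⊗[B] Gr (J := J) (M := M) n := fun n =>
    { QuotientAddGroup.lift H.toAddSubgroup (m.toGr n) fun x hx => m.toGr_eq_zero_of_mem n hx with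
      map_smul' := fun c y => by
        obtain ⟨p, rfl⟩ := m.θ_surjective c
        obtain ⟨x, rfl⟩ := Submodule.Quotient.mk_surjective _ y
        rw [hRsmul]
        exact m.toGr_φ₀_smul n p x }
  have hrmk : ∀ n x, r n (Submodule.Quotient.mk x) = m.toGr n x := fun n x => rfl
  have hir : ∀ n x, i n (r n (Submodule.Quotient.mk x)) = Submodule.Quotient.mk (comp m.w n x) := fun n x => by
    rw [hrmk]
    refine (hi n (comp m.w n x) (m.g_comp_mem n x) (comp_mem_Jn m.w n x)).trans ?_
    rw [comp_comp, if_pos rfl]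
  refine ⟨{ G := G, i := i, r := r, r_smul := fun n p x => ?_, sum_eq := fun y => ?_ }⟩
  · induction x using TensorProduct.induction_on with
    | zero => simp
    | add a b ha hb => rw [map_add, smul_add, map_add, ha, hb, smul_add]
    | tmul a d =>
      obtain ⟨p, rfl⟩ := m.ψ_surjective p
      obtain ⟨q, rfl⟩ := m.θ_surjective a
      obtain ⟨d, rfl⟩ := Submodule.Quotient.mk_surjective _ d
      obtain ⟨x, hxJ, hx⟩ := m.exists_cocycle_lift n d
      obtain ⟨d, hd⟩ := d
      obtain rfl : m.g x = d := hx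
      rw [show m.θ q ⊗ₜ[B] (Submodule.Quotient.mk _ : Gr (J := J) (M := M) n) =
        m.θ q • ((1 : B ⧸ J) ⊗ₜ[B] mkGr (J := J) (M := M) n _) by rw [TensorProduct.smul_tmul', smul_eq_mul, mul_one]; rfl]
      rw [map_smul (i n), hi n x _ hxJ, hRsmul, hsmul, ← Submodule.Quotient.mk_smul, hrmk, ← mul_smul,
        m.toGr_smul n _ (comp_mem_Jn m.w n x), map_mul, m.θ_φ₀, m.constantCoeff_ψ, mul_smul]
      congr 2
      show (1 : B ⧸ J) ⊗ₜ[B] mkGr (J := J) (M := M) n _ = (1 : B ⧸ J) ⊗ₜ[B] mkGr (J := J) (M := M) n _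
      congr 1
      rw [Submodule.mkQ_apply, Submodule.mkQ_apply, Submodule.Quotient.eq]
      show m.g (comp m.w n (comp m.w n x)) - m.g x ∈ (J ^ (n + 1) • ⊤ : Submodule B M)
      rw [comp_comp, if_pos rfl, ← map_sub, m.mem_iff]
      exact Submodule.mem_sup_right (mem_Jn_succ m.w (sub_mem (comp_mem_Jn m.w n x) hxJ)
        (by rw [map_sub, comp_comp, if_pos rfl, sub_self]))
  · obtain ⟨x, rfl⟩ := Submodule.Quotient.mk_surjective _ y
    obtain ⟨b, hb⟩ := exists_bound m.w x
    refine ⟨b, fun c hc => ?_⟩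
    refine ((Finset.sum_congr rfl fun n _ => hir n x).trans
      (map_sum H.mkQ (fun n => comp m.w n x) (Finset.range c)).symm).trans (congrArg H.mkQ ?_)
    rw [← LinearMap.sum_apply]
    exact hb c hc

variable (W : m.GradedModel)

include W in
theorem flat_iff_mem_flatLocus (Q : PrimeSpectrum (B ⧸ J)) :
    (∀ n, Module.Flat (B ⧸ J) ((B ⧸ J) ⊗[B]
      LocalizedModule (Q.asIdeal.comap (Ideal.Quotient.mk J)).primeCompl (Gr (J := J) (M := M) n))) ↔
    PrimeSpectrum.comap (constantCoeff : m.SR →+* B ⧸ J) Q ∈ FlatLib.flatLocus (B ⧸ J) m.SR W.G := by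
  classical
  let T := (PrimeSpectrum.comap (constantCoeff : m.SR →+* B ⧸ J) Q).asIdeal.primeCompl
  have hiff : PrimeSpectrum.comap (constantCoeff : m.SR →+* B ⧸ J) Q ∈ FlatLib.flatLocus (B ⧸ J) m.SR W.G ↔
      ∀ (P : Type u) [AddCommGroup P] [Module (B ⧸ J) P] (N : Submodule (B ⧸ J) P)
        (x : W.G ⊗[B ⧸ J] N), N.subtype.lTensor W.G x = 0 → ∃ t ∈ T, t • x = 0 :=
    FlatLib.flat_localized_iff T (LocalizedModule.mkLinearMap T W.G)
  rw [hiff]
  constructor
  · intro h P _ _ N z hz
    obtain ⟨b, hb⟩ : ∃ b, ∀ c ≥ b, ∑ n ∈ Finset.range c, LinearMap.rTensor N (W.i n ∘ₗ W.r n) z = z := by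
      clear hz
      induction z using TensorProduct.induction_on with
      | zero => exact ⟨0, fun c _ => Finset.sum_eq_zero fun n _ => map_zero _⟩
      | tmul y v =>
        obtain ⟨b, hb⟩ := W.sum_eq y
        refine ⟨b, fun c hc => ?_⟩
        simp only [LinearMap.rTensor_tmul, LinearMap.comp_apply, ← TensorProduct.sum_tmul, hb c hc]
      | add x y hx hy =>
        obtain ⟨a, ha⟩ := hx
        obtain ⟨b, hb⟩ := hy
        exact ⟨max a b, fun c hc => by
          simp only [map_add, Finset.sum_add_distrib, ha c (le_trans (le_max_left _ _) hc),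
            hb c (le_trans (le_max_right _ _) hc)]⟩
    have hker : ∀ n, N.subtype.lTensor _ (LinearMap.rTensor N (W.r n) z) = 0 := fun n => by
      rw [← LinearMap.comp_apply, LinearMap.lTensor_comp_rTensor, ← LinearMap.rTensor_comp_lTensor,
        LinearMap.comp_apply, hz, map_zero]
    choose t ht htz using fun n => (flat_tensor_localized_iff _).1 (h n) P N _ (hker n)
    refine ⟨C (∏ n ∈ Finset.range b, t n), fun hc => ?_, ?_⟩
    · have hc' : ∏ n ∈ Finset.range b, t n ∈ Q.asIdeal := by simpa using hc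
      obtain ⟨n, -, hn⟩ := (Q.isPrime.prod_mem_iff).1 hc'
      obtain ⟨c, hcq, hct⟩ := ht n
      exact hcq (show Ideal.Quotient.mk J c ∈ Q.asIdeal from hct ▸ hn)
    · rw [← MvPolynomial.algebraMap_eq, algebraMap_smul, ← hb b le_rfl, Finset.smul_sum]
      refine Finset.sum_eq_zero fun n hn => ?_
      rw [LinearMap.rTensor_comp, LinearMap.comp_apply, ← Finset.prod_erase_mul _ _ hn, mul_smul, ← map_smul,
        htz n, map_zero, smul_zero]
  · intro h n
    refine (flat_tensor_localized_iff _).2 fun P _ _ N x hx => ?_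
    have hz : N.subtype.lTensor W.G (LinearMap.rTensor N (W.i n) x) = 0 := by
      rw [← LinearMap.comp_apply, LinearMap.lTensor_comp_rTensor, ← LinearMap.rTensor_comp_lTensor,
        LinearMap.comp_apply, hx, map_zero]
    obtain ⟨s, hs, hsz⟩ := h P N _ hz
    obtain ⟨c, hc⟩ := Ideal.Quotient.mk_surjective (constantCoeff s)
    refine ⟨constantCoeff s, ⟨c, fun hcq => hs ?_, hc⟩, ?_⟩
    · show constantCoeff s ∈ Q.asIdeal
      rw [← hc]
      exact hcq
    · have key : ∀ x : ((B ⧸ J) ⊗[B] Gr (J := J) (M := M) n) ⊗[B ⧸ J] N,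
          LinearMap.rTensor N (W.r n) (s • LinearMap.rTensor N (W.i n) x) = constantCoeff s • x := fun x => by
        induction x using TensorProduct.induction_on with
        | zero => simp
        | tmul a v =>
          rw [LinearMap.rTensor_tmul, TensorProduct.smul_tmul', LinearMap.rTensor_tmul, W.r_smul,
            TensorProduct.smul_tmul']
        | add a b ha hb => simp only [map_add, smul_add, ha, hb]
      rw [← key x, hsz, map_zero]

/-- The locus of normal flatness is open. -/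
theorem isOpen_normalFlatLocus (hT : TFlat m.w (bc A m.K₀)) :
    IsOpen {q : PrimeSpectrum B | J ≤ q.asIdeal → ∀ k : ℕ, Module.Flat (B ⧸ J)
      ((B ⧸ J) ⊗[B] LocalizedModule q.asIdeal.primeCompl (Gr (J := J) (M := M) k))} := by
  obtain ⟨W⟩ := m.exists_gradedModel hT
  have hU : IsOpen (PrimeSpectrum.comap (constantCoeff : m.SR →+* B ⧸ J) ⁻¹' FlatLib.flatLocus (B ⧸ J) m.SR W.G) :=
    FlatLib.isOpen_flatLocus_fp.preimage (PrimeSpectrum.continuous_comap _)
  rw [← isClosed_compl_iff]
  have hemb := PrimeSpectrum.isClosedEmbedding_comap_of_surjective (B ⧸ J) (Ideal.Quotient.mk J)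
    Ideal.Quotient.mk_surjective
  convert hemb.isClosedMap _ hU.isClosed_compl using 1
  ext q
  constructor
  · intro hq
    obtain ⟨hJ, hnot⟩ := Classical.not_imp.1 hq
    obtain ⟨Q, rfl⟩ : q ∈ Set.range (PrimeSpectrum.comap (Ideal.Quotient.mk J)) := by
      rw [range_comap_of_surjective _ _ Ideal.Quotient.mk_surjective, Ideal.mk_ker, PrimeSpectrum.mem_zeroLocus]
      exact hJ
    exact ⟨Q, fun hm => hnot fun k => (m.flat_iff_mem_flatLocus W Q).2 hm k, rfl⟩
  · rintro ⟨Q, hQ, rfl⟩ h
    refine hQ ((m.flat_iff_mem_flatLocus W Q).1 fun k => h ?_ k)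
    intro x hx
    show Ideal.Quotient.mk J x ∈ Q.asIdeal
    rw [Ideal.Quotient.eq_zero_iff_mem.2 hx]
    exact zero_mem _

end Model

end GrFlatLib
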