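import Groth.Agent.GrFlatLib.Poly

/-! Change of coefficients for submodules of free modules over polynomial rings. -/

set_option autoImplicit false
universe u

open TensorProduct MvPolynomial

noncomputable section

namespace GrFlatLib

variable {ν : Type u} (w : ν → ℕ) {A : Type u} [CommRing A] {s : ℕ} (B : Type u) [CommRing B] [Algebra A B]

/-- Change of coefficients. -/
def fMap : Mdl A s ν →ₗ[A] Mdl B s ν where
  toFun x i := MvPolynomial.map (algebraMap A B) (x i)
  map_add' x y := funext fun i => by simp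
  map_smul' c x := funext fun i => MvPolynomial.ext _ _ fun d => by
    simp [coeff_map, Algebra.smul_def]

theorem coeff_fMap (x : Mdl A s ν) (i : Fin s) (d : ν →₀ ℕ) :
    coeff d (fMap B x i) = algebraMap A B (coeff d (x i)) := coeff_map _ _ _

theorem fMap_smul (p : MvPolynomial ν A) (x : Mdl A s ν) :
    fMap B (p • x) = MvPolynomial.map (algebraMap A B) p • fMap B x :=
  funext fun i => by simp [fMap]

theorem fMap_comp (n : ℕ) (x : Mdl A s ν) : fMap B (comp w n x) = comp w n (fMap B x) :=
  mdl_ext fun i d => by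
    rw [coeff_fMap, coeff_comp, coeff_comp, coeff_fMap]
    split_ifs <;> simp

theorem isBaseChange_fMap : IsBaseChange B (fMap (A := A) (s := s) (ν := ν) B) :=
  IsBaseChange.of_equiv
    ((TensorProduct.piRight A B B fun _ : Fin s => MvPolynomial ν A).trans
      (LinearEquiv.piCongrRight fun _ => (algebraTensorAlgEquiv A B).toLinearEquiv))
    fun x => funext fun i => by simp [fMap]

theorem fMap_trans (C : Type u) [CommRing C] [Algebra A C] [Algebra B C] [IsScalarTower A B C] (x : Mdl A s ν) :
    fMap C (fMap B x) = fMap C x :=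
  mdl_ext fun i d => by simp [coeff_fMap, ← IsScalarTower.algebraMap_apply]

/-- The submodule generated by a submodule after change of coefficients. -/
def bc (K : Submodule (MvPolynomial ν A) (Mdl A s ν)) : Submodule (MvPolynomial ν B) (Mdl B s ν) :=
  Submodule.span _ (fMap B '' (K : Set (Mdl A s ν)))

variable {B}

theorem fMap_mem_bc {K : Submodule (MvPolynomial ν A) (Mdl A s ν)} {x : Mdl A s ν} (hx : x ∈ K) :
    fMap B x ∈ bc B K := Submodule.subset_span ⟨x, hx, rfl⟩

/-- The span over the polynomial ring is the span over the coefficients. -/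
theorem restrictScalars_bc (K : Submodule (MvPolynomial ν A) (Mdl A s ν)) :
    (bc B K).restrictScalars B = Submodule.span B (fMap B '' (K : Set (Mdl A s ν))) := by
  refine le_antisymm (fun x hx => ?_) (Submodule.span_le_restrictScalars B (MvPolynomial ν B) _)
  have key : ∀ (p : MvPolynomial ν B), ∀ y ∈ Submodule.span B (fMap B '' (K : Set (Mdl A s ν))),
      p • y ∈ Submodule.span B (fMap B '' (K : Set (Mdl A s ν))) := by
    intro p y hy
    induction hy using Submodule.span_induction with
    | mem y hy =>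
      obtain ⟨k, hk, rfl⟩ := hy
      induction p using MvPolynomial.induction_on' with
      | monomial e a =>
        have h1 : monomial e a • fMap B k = a • fMap B (monomial e (1 : A) • k) := by
          rw [fMap_smul, MvPolynomial.map_monomial, map_one, ← smul_assoc, MvPolynomial.smul_monomial,
            smul_eq_mul, mul_one]
        rw [h1]
        exact Submodule.smul_mem _ a (Submodule.subset_span ⟨_, K.smul_mem _ hk, rfl⟩)
      | add p q hp hq => rw [add_smul]; exact add_mem hp hq
    | zero => rw [smul_zero]; exact zero_mem _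
    | add y z _ _ hy hz => rw [smul_add]; exact add_mem hy hz
    | smul c y _ hy => rw [smul_comm]; exact Submodule.smul_mem _ c hy
  have hx' : x ∈ bc B K := hx
  induction hx' using Submodule.span_induction with
  | mem y hy => exact Submodule.subset_span hy
  | zero => exact zero_mem _
  | add y z hy' hz' hy hz => exact add_mem (hy hy') (hz hz')
  | smul p y hy' hy => exact key p y (hy hy')

theorem mem_bc_iff (K : Submodule (MvPolynomial ν A) (Mdl A s ν)) (x : Mdl B s ν) :
    x ∈ bc B K ↔ x ∈ Submodule.span B (fMap B '' (K : Set (Mdl A s ν))) := by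
  rw [← restrictScalars_bc, Submodule.restrictScalars_mem]

theorem bc_mono {K H : Submodule (MvPolynomial ν A) (Mdl A s ν)} (h : K ≤ H) : bc B K ≤ bc B H :=
  Submodule.span_mono (Set.image_mono h)

theorem bc_span (S : Set (Mdl A s ν)) :
    bc B (Submodule.span (MvPolynomial ν A) S) = Submodule.span (MvPolynomial ν B) (fMap B '' S) := by
  refine le_antisymm (Submodule.span_le.2 ?_) (Submodule.span_mono (Set.image_mono Submodule.subset_span))
  rintro _ ⟨x, hx, rfl⟩
  induction hx using Submodule.span_induction with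
  | mem x hx => exact Submodule.subset_span ⟨x, hx, rfl⟩
  | zero => rw [map_zero]; exact zero_mem _
  | add x y _ _ hx hy => rw [map_add]; exact add_mem hx hy
  | smul p x _ hx => rw [fMap_smul]; exact Submodule.smul_mem _ _ hx

theorem bc_sup (K H : Submodule (MvPolynomial ν A) (Mdl A s ν)) : bc B (K ⊔ H) = bc B K ⊔ bc B H := by
  refine le_antisymm (Submodule.span_le.2 ?_) (sup_le (bc_mono le_sup_left) (bc_mono le_sup_right))
  rintro _ ⟨x, hx, rfl⟩
  obtain ⟨k, hk, h, hh, rfl⟩ := Submodule.mem_sup.1 hx
  rw [map_add]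
  exact Submodule.add_mem_sup (fMap_mem_bc hk) (fMap_mem_bc hh)

theorem bc_bc (C : Type u) [CommRing C] [Algebra A C] [Algebra B C] [IsScalarTower A B C]
    (K : Submodule (MvPolynomial ν A) (Mdl A s ν)) : bc C (bc B K) = bc C K := by
  show bc C (Submodule.span (MvPolynomial ν B) (fMap B '' (K : Set (Mdl A s ν)))) =
    Submodule.span (MvPolynomial ν C) (fMap C '' (K : Set (Mdl A s ν)))
  rw [bc_span]
  congr 1
  rw [← Set.image_comp]
  exact Set.image_congr fun x _ => fMap_trans B C x

theorem bc_fg {K : Submodule (MvPolynomial ν A) (Mdl A s ν)} (hK : K.FG) : (bc B K).FG := by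
  classical
  obtain ⟨S, rfl⟩ := hK
  exact ⟨S.image (fMap B), by rw [Finset.coe_image, bc_span]⟩

theorem bc_Jn (n : ℕ) : bc B (Jn (A := A) (s := s) w n) = Jn w n := by
  refine le_antisymm (Submodule.span_le.2 ?_) fun x hx => ?_
  · rintro _ ⟨y, hy, rfl⟩ i d hd
    rw [coeff_fMap, hy i d hd, map_zero]
  · classical
    have hdec : x = ∑ i, ∑ d ∈ (x i).support, Pi.single i (monomial d (coeff d (x i))) := by
      rw [← Finset.univ_sum_single x]
      refine Finset.sum_congr rfl fun i _ => ?_
      rw [Finset.univ_sum_single x]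
      exact (congrArg (Pi.single i) (as_sum (x i))).trans (map_sum (LinearMap.single B (fun _ => MvPolynomial ν B) i) _ _)
    rw [hdec]
    refine sum_mem fun i _ => sum_mem fun d hd => ?_
    have hy : Pi.single i (monomial d (1 : A)) ∈ Jn (s := s) w n := fun j e he => by
      by_cases hij : j = i
      · subst hij
        rw [Pi.single_eq_same, coeff_monomial]
        split_ifs with h
        · subst h
          exact absurd (hx j d he) (MvPolynomial.mem_support_iff.1 hd)
        · rfl
      · rw [Pi.single_eq_of_ne hij, coeff_zero]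
    have h1 : Pi.single i (monomial d (coeff d (x i))) =
        (C (coeff d (x i)) : MvPolynomial ν B) • fMap B (Pi.single i (monomial d (1 : A)) : Mdl A s ν) := by
      funext j
      by_cases hij : j = i
      · subst hij
        simp [fMap, C_mul_monomial]
      · simp [fMap, Pi.single_eq_of_ne hij]
    rw [h1]
    exact Submodule.smul_mem _ _ (fMap_mem_bc hy)

variable {w}

theorem bc_Iw_smul_le (K : Submodule (MvPolynomial ν A) (Mdl A s ν)) :
    bc B (Iw (A := A) w • K) ≤ Iw (A := B) w • bc B K := by
  refine Submodule.span_le.2 ?_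
  rintro _ ⟨x, hx, rfl⟩
  induction hx using Submodule.smul_induction_on' with
  | smul r hr k hk =>
    rw [fMap_smul]
    refine Submodule.smul_mem_smul ?_ (fMap_mem_bc hk)
    have h := Ideal.mem_map_of_mem (MvPolynomial.map (algebraMap A B)) hr
    refine (?_ : (Iw (A := A) w).map (MvPolynomial.map (algebraMap A B)) ≤ Iw (A := B) w) h
    rw [Iw, Ideal.map_span, Iw, ← Set.image_comp]
    exact Ideal.span_mono (le_of_eq (Set.image_congr fun v _ => map_X _ v))
  | add x _ y _ hx hy => rw [map_add]; exact add_mem hx hy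

/-- Base change of the intersection with the filtration. -/
theorem bc_inf_Jn {K : Submodule (MvPolynomial ν A) (Mdl A s ν)} (n : ℕ)
    (hinj : Function.Injective (LinearMap.lTensor B
      ((K.restrictScalars A).map ((Jn w n).restrictScalars A).mkQ).subtype)) :
    bc B K ⊓ Jn w n = bc B (K ⊓ Jn w n) := by
  rw [← bc_Jn (A := A) w n]
  refine le_antisymm (fun x hx => ?_) (le_inf (bc_mono inf_le_left) (bc_mono inf_le_right))
  have h := span_inf_eq (isBaseChange_fMap B) (K.restrictScalars A) ((Jn w n).restrictScalars A) hinj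
  rw [mem_bc_iff]
  exact h.le ⟨(mem_bc_iff _ _).1 hx.1, (mem_bc_iff _ _).1 hx.2⟩

theorem bc_inf_Jn_of_flat {K : Submodule (MvPolynomial ν A) (Mdl A s ν)} (n : ℕ)
    [Module.Flat A (Mdl A s ν ⧸ (K ⊔ Jn w n))] : bc B K ⊓ Jn w n = bc B (K ⊓ Jn w n) := by
  haveI : Module.Flat A (Mdl A s ν ⧸ (K.restrictScalars A ⊔ (Jn w n).restrictScalars A)) := by
    rw [← Submodule.restrictScalars_sup]
    exact Module.Flat.of_linearEquiv (Submodule.Quotient.restrictScalarsEquiv A _)
  exact bc_inf_Jn n (injective_of_flat_sup _ _)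

theorem bc_inf_Jn_of_flat_algebra [Module.Flat A B] {K : Submodule (MvPolynomial ν A) (Mdl A s ν)} (n : ℕ) :
    bc B K ⊓ Jn w n = bc B (K ⊓ Jn w n) :=
  bc_inf_Jn n (Module.Flat.lTensor_preserves_injective_linearMap _ (Submodule.injective_subtype _))

theorem Ld_bc {K : Submodule (MvPolynomial ν A) (Mdl A s ν)} {n : ℕ}
    (h : bc B K ⊓ Jn w n = bc B (K ⊓ Jn w n)) : Ld w (bc B K) n = bc B (Ld w K n) := by
  rw [Ld, Ld, h, bc_sup, bc_Jn]

theorem Hd_bc {K : Submodule (MvPolynomial ν A) (Mdl A s ν)} (N : ℕ)
    (h : ∀ d ≤ N, bc B K ⊓ Jn w d = bc B (K ⊓ Jn w d)) : Hd w N (bc B K) = bc B (Hd w N K) := by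
  refine le_antisymm (Submodule.span_le.2 ?_) ?_
  · intro x hx
    obtain ⟨d, hd, z, hz, rfl⟩ := Set.mem_iUnion₂.1 hx
    rw [h d hd, SetLike.mem_coe, mem_bc_iff] at hz
    clear hx
    induction hz using Submodule.span_induction with
    | mem z hz =>
      obtain ⟨k, hk, rfl⟩ := hz
      rw [← fMap_comp]
      exact fMap_mem_bc (comp_mem_Hd w hd hk)
    | zero => rw [map_zero]; exact zero_mem _
    | add a b _ _ ha hb => rw [map_add]; exact add_mem ha hb
    | smul c a _ ha =>
      rw [map_smul]
      exact Submodule.smul_of_tower_mem _ c ha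
  · rw [Hd, bc_span]
    refine Submodule.span_le.2 ?_
    rintro _ ⟨x, hx, rfl⟩
    obtain ⟨d, hd, k, hk, rfl⟩ := Set.mem_iUnion₂.1 hx
    rw [fMap_comp]
    exact comp_mem_Hd w hd ⟨fMap_mem_bc hk.1, fun i e he => by rw [coeff_fMap, hk.2 i e he, map_zero]⟩

theorem Gen.bc {K : Submodule (MvPolynomial ν A) (Mdl A s ν)} {n : ℕ} (hg : Gen w K n)
    (h : bc B K ⊓ Jn w (n + 1) = bc B (K ⊓ Jn w (n + 1))) : Gen w (bc B K) n := by
  rw [Gen, Ld_bc h]
  refine (bc_mono hg).trans ?_
  rw [bc_sup, bc_Jn]
  refine sup_le ((bc_Iw_smul_le _).trans ?_ |>.trans le_sup_left) le_sup_right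
  refine Submodule.smul_mono le_rfl ?_
  rw [Ld, bc_sup, bc_Jn]
  refine sup_le ((le_inf (bc_mono inf_le_left) ?_).trans le_sup_left) le_sup_right
  exact (bc_mono inf_le_right).trans_eq (bc_Jn w n)

theorem flat_bc (K : Submodule (MvPolynomial ν A) (Mdl A s ν)) [Module.Flat A (Mdl A s ν ⧸ K)] :
    Module.Flat B (Mdl B s ν ⧸ bc B K) := by
  haveI : Module.Flat A (Mdl A s ν ⧸ K.restrictScalars A) :=
    Module.Flat.of_linearEquiv (Submodule.Quotient.restrictScalarsEquiv A K)
  have h := flat_quotient_baseChange (isBaseChange_fMap (A := A) (s := s) (ν := ν) B) (K.restrictScalars A)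
  rw [show Submodule.span B (fMap B '' ((K.restrictScalars A : Submodule A _) : Set (Mdl A s ν))) =
    (bc B K).restrictScalars B from (restrictScalars_bc K).symm] at h
  exact Module.Flat.of_linearEquiv (Submodule.Quotient.restrictScalarsEquiv B (bc B K)).symm

theorem TFlat.bc {K : Submodule (MvPolynomial ν A) (Mdl A s ν)} (hK : TFlat w K) : TFlat w (bc B K) := fun n => by
  rw [← bc_Jn (A := A) w n, ← bc_sup]
  haveI := hK n
  exact flat_bc _

end GrFlatLib
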