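import Groth.Agent.GrFlatLib.Core
import Groth.Agent.FlatCrit.Basic
import Groth.Agent.FlatLib.Local

/-! Models of finitely presented filtered modules, and flatness at the points of the centre. -/

set_option autoImplicit false
set_option maxHeartbeats 1000000
universe u

open TensorProduct MvPolynomial

noncomputable section

namespace GrFlatLib

/-- A module with flat quotients by the powers of an ideal is flat at the points of that ideal. -/
theorem flat_localized_of_flat_quotients {R P M : Type u} [CommRing R] [IsNoetherianRing R] [CommRing P]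
    [Algebra R P] [IsNoetherianRing P] [AddCommGroup M] [Module P M] [Module R M] [IsScalarTower R P M]
    [Module.Finite P M] (I : Ideal P) (h : ∀ n : ℕ, Module.Flat R (M ⧸ (I ^ n • ⊤ : Submodule P M)))
    (q : Ideal P) [q.IsPrime] (hq : I ≤ q) : Module.Flat R (LocalizedModule q.primeCompl M) := by
  refine Module.Flat.iff_lTensor_injective.mpr fun a ha => ?_
  haveI : Module.Finite R a := Module.Finite.iff_fg.mpr ha
  haveI : Module.Finite P (M ⊗[R] a) := FlatCrit.finite_tensor_fg
  rw [FlatLib.injective_lTensor_localized_iff q.primeCompl (LocalizedModule.mkLinearMap q.primeCompl M) a.subtype]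
  intro x hx
  have hxn : ∀ n : ℕ, x ∈ (I ^ n • ⊤ : Submodule P (M ⊗[R] a)) := fun n => by
    let Q := (I ^ n • ⊤ : Submodule P M)
    haveI := h n
    let mk : M →ₗ[R] M ⧸ Q := Q.mkQ.restrictScalars R
    have h0 : LinearMap.rTensor a mk x = 0 := by
      refine Module.Flat.lTensor_preserves_injective_linearMap (M := M ⧸ Q) a.subtype a.injective_subtype ?_
      rw [map_zero, ← LinearMap.comp_apply, LinearMap.lTensor_comp_rTensor, ← LinearMap.rTensor_comp_lTensor,
        LinearMap.comp_apply, hx, map_zero]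
    have hex : Function.Exact (Q.subtype.restrictScalars R) mk := fun y => (LinearMap.exact_subtype_mkQ Q) y
    obtain ⟨u, rfl⟩ := (rTensor_exact a hex Q.mkQ_surjective x).1 h0
    clear h0 hx
    induction u using TensorProduct.induction_on with
    | zero => rw [map_zero]; exact zero_mem _
    | add a b ha hb => rw [map_add]; exact add_mem ha hb
    | tmul y b =>
      show (y : M) ⊗ₜ[R] b ∈ _
      refine Submodule.smul_induction_on y.2 (fun i hi m _ => ?_) fun m m' hm hm' => ?_
      · rw [← TensorProduct.smul_tmul']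
        exact Submodule.smul_mem_smul hi Submodule.mem_top
      · rw [TensorProduct.add_tmul]
        exact add_mem hm hm'
  obtain ⟨r, hr⟩ := (I.mem_iInf_smul_pow_eq_bot_iff x).mp (Submodule.mem_iInf _ |>.2 hxn)
  refine ⟨1 - r.1, fun hmem => (‹q.IsPrime›).ne_top ((Ideal.eq_top_iff_one _).2 ?_), ?_⟩
  · simpa using add_mem hmem (hq r.2)
  · rw [sub_smul, one_smul, hr, sub_self]

/-- A finitely presented module with an ideal, over a polynomial ring with coefficients in a Noetherian ring. -/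
structure Model (A B : Type u) [CommRing A] [CommRing B] [Algebra A B] (J : Ideal B) (M : Type u)
    [AddCommGroup M] [Module B M] [Module A M] [IsScalarTower A B M] where
  /-- the coefficients -/
  R₀ : Type u
  [ring : CommRing R₀]
  [alg : Algebra R₀ A]
  [noeth : IsNoetherianRing R₀]
  /-- the variables -/
  ν : Type u
  [fin : Finite ν]
  /-- the weights -/
  w : ν → ℕ
  hw : ∀ v, w v ≤ 1
  /-- the rank -/
  s : ℕ
  /-- the relations -/
  K₀ : Submodule (MvPolynomial ν R₀) (Mdl R₀ s ν)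
  /-- the presentation of the algebra -/
  π : MvPolynomial ν A →ₐ[A] B
  π_surj : Function.Surjective π
  map_Iw : (Iw (A := A) w).map π = J
  /-- the presentation of the module -/
  g : Mdl A s ν →ₗ[A] M
  g_surj : Function.Surjective g
  g_smul : ∀ (p : MvPolynomial ν A) (x : Mdl A s ν), g (p • x) = π p • g x
  g_ker : ∀ x, g x = 0 ↔ x ∈ bc A K₀

attribute [instance] Model.ring Model.alg Model.noeth Model.fin

theorem exists_model {A B : Type u} [CommRing A] [CommRing B] [Algebra A B] [Algebra.FinitePresentation A B]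
    (J : Ideal B) (hJ : J.FG) (M : Type u) [AddCommGroup M] [Module B M] [Module A M] [IsScalarTower A B M]
    [Module.FinitePresentation B M] : Nonempty (Model A B J M) := by
  classical
  obtain ⟨σ, hσ, π₀, hπ₀, -⟩ := Algebra.FinitePresentation.iff_quotient_mvPolynomial'.{_, _, u}.mp
    (inferInstance : Algebra.FinitePresentation A B)
  obtain ⟨r, j, hj⟩ := Submodule.fg_iff_exists_fin_generating_family.1 hJ
  let ν := σ ⊕ ULift.{u} (Fin r)
  let w : ν → ℕ := Sum.elim (fun _ => 0) fun _ => 1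
  let π : MvPolynomial ν A →ₐ[A] B := MvPolynomial.aeval (Sum.elim (fun v => π₀ (X v)) fun t => j t.down)
  have hπ : Function.Surjective π := fun b => by
    obtain ⟨p, rfl⟩ := hπ₀ b
    refine ⟨rename Sum.inl p, ?_⟩
    rw [aeval_rename]
    exact AlgHom.congr_fun (algHom_ext (f := MvPolynomial.aeval _) (g := π₀) fun v => by simp) p
  have hmap : (Iw (A := A) w).map π = J := by
    rw [Iw, Ideal.map_span, ← hj]
    refine congrArg Ideal.span (Set.ext fun b => ⟨?_, ?_⟩)
    · rintro ⟨_, ⟨v, hv, rfl⟩, rfl⟩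
      rcases v with v | t
      · exact absurd hv (by simp [w])
      · exact ⟨t.down, by simp [π]⟩
    · rintro ⟨i, rfl⟩
      exact ⟨X (Sum.inr ⟨i⟩), ⟨Sum.inr ⟨i⟩, rfl, rfl⟩, by simp [π]⟩
  letI : Algebra (MvPolynomial ν A) B := π.toRingHom.toAlgebra
  haveI : Module.FinitePresentation (MvPolynomial ν A) B :=
    Module.finitePresentation_of_surjective (Algebra.linearMap (MvPolynomial ν A) B) hπ
      (Algebra.FinitePresentation.ker_fG_of_surjective π hπ)
  letI : Module (MvPolynomial ν A) M := Module.compHom M π.toRingHom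
  haveI : IsScalarTower (MvPolynomial ν A) B M := IsScalarTower.of_algebraMap_smul fun _ _ => rfl
  haveI : IsScalarTower A (MvPolynomial ν A) M := IsScalarTower.of_algebraMap_smul fun a m => by
    show π (algebraMap A _ a) • m = a • m
    rw [π.commutes, algebraMap_smul]
  haveI : Module.FinitePresentation (MvPolynomial ν A) M := Module.FinitePresentation.trans (MvPolynomial ν A) M B
  obtain ⟨s, K, e, hK⟩ := Module.FinitePresentation.exists_fin (R := MvPolynomial ν A) (M := M)
  obtain ⟨G, rfl⟩ := hK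
  let c : Finset A := G.biUnion fun x => Finset.univ.biUnion fun i => (x i).support.image fun d => coeff d (x i)
  let R₀ := Algebra.adjoin ℤ (c : Set A)
  haveI : IsNoetherianRing R₀ := isNoetherianRing_of_fg ⟨c, rfl⟩
  have hc : ∀ x ∈ G, ∀ i, ∀ d ∈ (x i).support, coeff d (x i) ∈ R₀ := fun x hx i d hd =>
    Algebra.subset_adjoin (Finset.mem_coe.2 (Finset.mem_biUnion.2 ⟨x, hx, Finset.mem_biUnion.2
      ⟨i, Finset.mem_univ i, Finset.mem_image.2 ⟨d, hd, rfl⟩⟩⟩))
  let y : G → Mdl R₀ s ν := fun x i => ∑ d ∈ (x.1 i).support.attach,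
    monomial d.1 ⟨coeff d.1 (x.1 i), hc x.1 x.2 i d.1 d.2⟩
  have hy : ∀ x, fMap A (y x) = x.1 := fun x => funext fun i => by
    show MvPolynomial.map (algebraMap R₀ A) (y x i) = _
    rw [map_sum]
    refine (Finset.sum_congr rfl fun d _ => map_monomial _ _ _).trans ?_
    exact (Finset.sum_attach (x.1 i).support fun d => monomial d (coeff d (x.1 i))).trans
      (support_sum_monomial_coeff _)
  have hbc : bc A (Submodule.span (MvPolynomial ν R₀) (Set.range y)) = Submodule.span _ (G : Set (Mdl A s ν)) := by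
    rw [bc_span, ← Set.range_comp]
    refine congrArg (Submodule.span _) (Set.ext fun x => ⟨?_, fun hx => ⟨⟨x, hx⟩, hy ⟨x, hx⟩⟩⟩)
    rintro ⟨z, rfl⟩
    rw [Function.comp_apply, hy]
    exact z.2
  let g : Mdl A s ν →ₗ[MvPolynomial ν A] M := e.symm.toLinearMap ∘ₗ (Submodule.span _ (G : Set (Mdl A s ν))).mkQ
  exact ⟨{
    R₀ := R₀, ν := ν, w := w, hw := fun v => by rcases v with v | v <;> simp [w]
    s := s, K₀ := Submodule.span _ (Set.range y), π := π, π_surj := hπ, map_Iw := hmap
    g := g.restrictScalars A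
    g_surj := e.symm.surjective.comp (Submodule.mkQ_surjective _)
    g_smul := fun p x => map_smul g p x
    g_ker := fun x => by
      rw [hbc]
      exact (e.symm.map_eq_zero_iff).trans (Submodule.Quotient.mk_eq_zero _) }⟩

variable {A B : Type u} [CommRing A] [CommRing B] [Algebra A B] {J : Ideal B} {M : Type u}
  [AddCommGroup M] [Module B M] [Module A M] [IsScalarTower A B M] (m : Model A B J M)

theorem Model.mem_iff (n : ℕ) (x : Mdl A m.s m.ν) :
    m.g x ∈ (J ^ n • ⊤ : Submodule B M) ↔ x ∈ bc A m.K₀ ⊔ Jn m.w n := by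
  constructor
  · intro hx
    obtain ⟨j, hj, hjx⟩ : ∃ j ∈ Jn (A := A) (s := m.s) m.w n, m.g j = m.g x := by
      refine Submodule.smul_induction_on hx (fun r hr y _ => ?_) fun y z ⟨a, ha, hay⟩ ⟨b, hb, hbz⟩ =>
        ⟨a + b, add_mem ha hb, by rw [map_add, hay, hbz]⟩
      replace hr : r ∈ (Iw (A := A) m.w ^ n).map m.π :=
        ((Ideal.map_pow _ _ _).trans (congrArg (· ^ n) m.map_Iw)).ge hr
      obtain ⟨p, hp, rfl⟩ := (Ideal.mem_map_iff_of_surjective m.π m.π_surj).1 hr
      obtain ⟨z, rfl⟩ := m.g_surj y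
      exact ⟨p • z, (Iw_pow_smul_top m.hw n).le (Submodule.smul_mem_smul hp Submodule.mem_top), m.g_smul p z⟩
    rw [show x = (x - j) + j by abel]
    exact Submodule.add_mem_sup ((m.g_ker _).1 (by rw [map_sub, hjx, sub_self])) hj
  · intro hx
    obtain ⟨k, hk, j, hj, rfl⟩ := Submodule.mem_sup.1 hx
    rw [map_add, (m.g_ker k).2 hk, zero_add]
    rw [← Iw_pow_smul_top m.hw] at hj
    refine Submodule.smul_induction_on hj (fun p hp z _ => ?_) fun y z hy hz => by rw [map_add]; exact add_mem hy hz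
    rw [m.g_smul]
    exact Submodule.smul_mem_smul (((Ideal.map_pow _ _ _).trans (congrArg (· ^ n) m.map_Iw)).le
      (Ideal.mem_map_of_mem m.π hp)) Submodule.mem_top

/-- The truncations of the module. -/
theorem Model.exists_truncEquiv (n : ℕ) :
    Nonempty ((Mdl A m.s m.ν ⧸ (bc A m.K₀ ⊔ Jn m.w n)) ≃ₗ[A] M ⧸ (J ^ n • ⊤ : Submodule B M)) := by
  let f : Mdl A m.s m.ν →ₗ[A] M ⧸ (J ^ n • ⊤ : Submodule B M) :=
    ((J ^ n • ⊤ : Submodule B M).mkQ.restrictScalars A) ∘ₗ m.g
  have hf : Function.Surjective f := (Submodule.mkQ_surjective _).comp m.g_surj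
  have hker : LinearMap.ker f = (bc A m.K₀ ⊔ Jn m.w n).restrictScalars A := by
    ext x
    rw [LinearMap.mem_ker, Submodule.restrictScalars_mem, ← m.mem_iff]
    exact Submodule.Quotient.mk_eq_zero _
  exact ⟨(Submodule.Quotient.restrictScalarsEquiv A _).symm ≪≫ₗ Submodule.quotEquivOfEq _ _ hker.symm ≪≫ₗ
    f.quotKerEquivOfSurjective hf⟩

theorem Model.tflat_iff :
    TFlat m.w (bc A m.K₀) ↔ ∀ n : ℕ, Module.Flat A (M ⧸ (J ^ n • ⊤ : Submodule B M)) := by
  constructor
  · intro h n
    haveI := h n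
    obtain ⟨e⟩ := m.exists_truncEquiv n
    exact Module.Flat.of_linearEquiv e.symm
  · intro h n
    haveI := h n
    obtain ⟨e⟩ := m.exists_truncEquiv n
    exact Module.Flat.of_linearEquiv e

/-- The truncations after a change of base. -/
theorem Model.exists_truncEquiv_baseChange (n : ℕ) (A' : Type u) [CommRing A'] [Algebra A A'] [Algebra m.R₀ A']
    [IsScalarTower m.R₀ A A'] :
    Nonempty ((Mdl A' m.s m.ν ⧸ (bc A' m.K₀ ⊔ Jn m.w n)) ≃ₗ[A']
      (A' ⊗[A] M) ⧸ LinearMap.range (((J ^ n • ⊤ : Submodule B M).restrictScalars A).subtype.baseChange A')) := by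
  obtain ⟨e⟩ := m.exists_truncEquiv n
  obtain ⟨e₁, -⟩ := exists_quotient_baseChange (isBaseChange_fMap (A := A) (s := m.s) (ν := m.ν) A')
    ((bc A m.K₀ ⊔ Jn m.w n).restrictScalars A)
  let N := (J ^ n • ⊤ : Submodule B M).restrictScalars A
  let f : (A' ⊗[A] M) →ₗ[A'] A' ⊗[A] (M ⧸ N) := N.mkQ.baseChange A'
  have hf : Function.Surjective f := LinearMap.lTensor_surjective A' N.mkQ_surjective
  have hker : LinearMap.ker f = LinearMap.range (N.subtype.baseChange A') := by
    ext x
    exact (lTensor_exact A' (LinearMap.exact_subtype_mkQ N) N.mkQ_surjective x)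
  have hspan : Submodule.span A' (fMap (A := A) A' ''
      (((bc A m.K₀ ⊔ Jn m.w n).restrictScalars A : Submodule A (Mdl A m.s m.ν)) : Set (Mdl A m.s m.ν))) =
      (bc A' m.K₀ ⊔ Jn m.w n).restrictScalars A' := by
    have h := restrictScalars_bc (B := A') (bc A m.K₀ ⊔ Jn m.w n)
    rw [bc_sup, bc_bc, bc_Jn] at h
    exact h.symm
  exact ⟨(Submodule.Quotient.restrictScalarsEquiv A' _).symm ≪≫ₗ Submodule.quotEquivOfEq _ _ hspan.symm ≪≫ₗ
    e₁.symm ≪≫ₗ
    AlgebraTensorModule.congr (LinearEquiv.refl A' A') (Submodule.Quotient.restrictScalarsEquiv A _ ≪≫ₗ e ≪≫ₗ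
      (Submodule.Quotient.restrictScalarsEquiv A (J ^ n • ⊤ : Submodule B M)).symm) ≪≫ₗ
    (f.quotKerEquivOfSurjective hf).symm ≪≫ₗ Submodule.quotEquivOfEq _ _ hker⟩

/-- The truncations of a module with flat pieces are flat. -/
theorem flat_truncations
    (hgr : ∀ k : ℕ, Module.Flat A
      (↥(J ^ k • (⊤ : Submodule B M)) ⧸ Submodule.comap (J ^ k • (⊤ : Submodule B M)).subtype (J ^ (k + 1) • ⊤))) :
    ∀ n : ℕ, Module.Flat A (M ⧸ (J ^ n • ⊤ : Submodule B M)) := by
  intro n
  induction n with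
  | zero =>
    haveI : Subsingleton (M ⧸ (J ^ 0 • ⊤ : Submodule B M)) := by
      rw [Submodule.Quotient.subsingleton_iff, pow_zero, Ideal.one_eq_top, Submodule.top_smul]
    infer_instance
  | succ n ih =>
    have hle : J ^ (n + 1) • (⊤ : Submodule B M) ≤ J ^ n • ⊤ :=
      Submodule.smul_mono_left (Ideal.pow_le_pow_right n.le_succ)
    haveI := hgr n
    exact flat_quotient_of_le A _ _ hle

include m in
/-- EGA IV 11.2.9: flat graded module implies flat at the centre. -/
theorem Model.flat_localized (h : ∀ n : ℕ, Module.Flat A (M ⧸ (J ^ n • ⊤ : Submodule B M)))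
    (q : Ideal B) [q.IsPrime] (hq : J ≤ q) : Module.Flat A (LocalizedModule q.primeCompl M) := by
  obtain ⟨S, hS, hT⟩ := exists_tflat_stage m.hw m.K₀ (m.tflat_iff.2 h)
  haveI : IsNoetherianRing S := Algebra.FiniteType.isNoetherianRing m.R₀ S
  let qS : Ideal (MvPolynomial m.ν S) :=
    q.comap ((m.π : MvPolynomial m.ν A →+* B).comp (MvPolynomial.map (algebraMap S A)))
  haveI : qS.IsPrime := Ideal.IsPrime.comap _
  have hIq : Iw (A := S) m.w ≤ qS := by
    refine Ideal.span_le.2 ?_
    rintro _ ⟨v, hv, rfl⟩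
    show m.π (MvPolynomial.map (algebraMap S A) (X v)) ∈ q
    rw [map_X]
    exact hq (m.map_Iw.le (Ideal.mem_map_of_mem _ (Ideal.subset_span ⟨v, hv, rfl⟩)))
  haveI : Module.Finite (MvPolynomial m.ν S) (Mdl S m.s m.ν ⧸ bc S m.K₀) := inferInstance
  have hflat := flat_localized_of_flat_quotients (R := S) (M := Mdl S m.s m.ν ⧸ bc S m.K₀) (Iw (A := S) m.w)
    (fun n => ?_) qS hIq
  · let N := (bc S m.K₀).restrictScalars S
    obtain ⟨e₁, he₁⟩ := exists_quotient_baseChange (isBaseChange_fMap (A := S) (s := m.s) (ν := m.ν) A) N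
    have hker : LinearMap.ker m.g = Submodule.span A (fMap A '' (N : Set (Mdl S m.s m.ν))) := by
      ext x
      rw [LinearMap.mem_ker, m.g_ker, ← bc_bc A (B := S) m.K₀, mem_bc_iff]
      rfl
    let E : A ⊗[S] (Mdl S m.s m.ν ⧸ N) ≃ₗ[A] M :=
      e₁ ≪≫ₗ Submodule.quotEquivOfEq _ _ hker.symm ≪≫ₗ m.g.quotKerEquivOfSurjective m.g_surj
    haveI : IsScalarTower S A M := IsScalarTower.of_algebraMap_smul fun _ _ => rfl
    let ι : (Mdl S m.s m.ν ⧸ bc S m.K₀) →ₗ[S] M :=
      (E.toLinearMap.restrictScalars S ∘ₗ TensorProduct.mk S A (Mdl S m.s m.ν ⧸ N) 1) ∘ₗ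
        (Submodule.Quotient.restrictScalarsEquiv S (bc S m.K₀)).symm.toLinearMap
    have hι : IsBaseChange A ι := IsBaseChange.of_equiv
      (AlgebraTensorModule.congr (LinearEquiv.refl A A) (Submodule.Quotient.restrictScalarsEquiv S (bc S m.K₀)).symm
        ≪≫ₗ E) fun x => rfl
    refine FlatLib.flat_localized_baseChange qS.primeCompl (LocalizedModule.mkLinearMap _ _)
      q.primeCompl (LocalizedModule.mkLinearMap _ M)
      ((m.π : MvPolynomial m.ν A →+* B).comp (MvPolynomial.map (algebraMap S A))) (fun t ht => ht) ι hι ?_ hflat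
    intro p x
    obtain ⟨x, rfl⟩ := Submodule.Quotient.mk_surjective _ x
    have hval : ∀ y, ι (Submodule.Quotient.mk y) = m.g (fMap A y) := fun y => by
      show m.g.quotKerEquivOfSurjective m.g_surj (Submodule.quotEquivOfEq _ _ hker.symm
        (e₁ ((1 : A) ⊗ₜ[S] (Submodule.Quotient.mk y : Mdl S m.s m.ν ⧸ N)))) = _
      rw [he₁, one_smul]
      rfl
    rw [← Submodule.Quotient.mk_smul, hval, hval, fMap_smul, m.g_smul]
    rfl
  · haveI := hT n
    have hmap : (Iw (A := S) m.w ^ n • ⊤ : Submodule (MvPolynomial m.ν S) (Mdl S m.s m.ν ⧸ bc S m.K₀)) =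
        (bc S m.K₀ ⊔ Jn m.w n).map (bc S m.K₀).mkQ := by
      rw [Submodule.map_sup, Submodule.mkQ_map_self, bot_sup_eq, ← Iw_pow_smul_top m.hw, Submodule.map_smul'',
        Submodule.map_top, Submodule.range_mkQ]
    rw [hmap]
    exact Module.Flat.of_linearEquiv ((Submodule.quotientQuotientEquivQuotient (bc S m.K₀)
      (bc S m.K₀ ⊔ Jn m.w n) le_sup_left).restrictScalars S)

end GrFlatLib
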