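import Groth.Agent.GrFlatLib.Base

/-! The filtration of a free module over a polynomial ring by the degree in some of the variables, leading
submodules, and flatness of the truncations. -/

set_option autoImplicit false
universe u

open TensorProduct MvPolynomial

noncomputable section

namespace GrFlatLib

variable {ν : Type u} (w : ν → ℕ) {A : Type u} [CommRing A] {s : ℕ}

variable (A s) in
/-- The free module of rank `s` over the polynomial ring. -/
abbrev Mdl (ν : Type u) : Type u := Fin s → MvPolynomial ν A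

/-- The homogeneous component of weight `n`. -/
noncomputable def comp (n : ℕ) : Mdl A s ν →ₗ[A] Mdl A s ν :=
  LinearMap.pi fun i => weightedHomogeneousComponent w n ∘ₗ LinearMap.proj i

theorem coeff_comp (n : ℕ) (x : Mdl A s ν) (i : Fin s) (d : ν →₀ ℕ) :
    coeff d (comp w n x i) = if Finsupp.weight w d = n then coeff d (x i) else 0 := by
  simp [comp, coeff_weightedHomogeneousComponent]

/-- The truncation below weight `n`. -/
noncomputable def lo (n : ℕ) : Mdl A s ν →ₗ[A] Mdl A s ν := ∑ j ∈ Finset.range n, comp w j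

theorem coeff_lo (n : ℕ) (x : Mdl A s ν) (i : Fin s) (d : ν →₀ ℕ) :
    coeff d (lo w n x i) = if Finsupp.weight w d < n then coeff d (x i) else 0 := by
  simp [lo, LinearMap.sum_apply, Finset.sum_apply, coeff_sum, coeff_comp]

theorem mdl_ext {x y : Mdl A s ν} (h : ∀ i d, coeff d (x i) = coeff d (y i)) : x = y :=
  funext fun i => MvPolynomial.ext _ _ (h i)

theorem weight_sub_add {e d : ν →₀ ℕ} (h : e ≤ d) :
    Finsupp.weight w (d - e) + Finsupp.weight w e = Finsupp.weight w d := by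
  rw [← map_add, tsub_add_cancel_of_le h]

theorem coeff_monomial_smul (e d : ν →₀ ℕ) (a : A) (x : Mdl A s ν) (i : Fin s) :
    coeff d ((monomial e a • x) i) = if e ≤ d then a * coeff (d - e) (x i) else 0 :=
  coeff_monomial_mul' d e a (x i)

/-- Elements of weight at least `n`. -/
def Jn (n : ℕ) : Submodule (MvPolynomial ν A) (Mdl A s ν) where
  carrier := {x | ∀ i d, Finsupp.weight w d < n → coeff d (x i) = 0}
  add_mem' := fun hx hy i d hd => by rw [Pi.add_apply, coeff_add, hx i d hd, hy i d hd, add_zero]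
  zero_mem' := fun i d _ => by rw [Pi.zero_apply, coeff_zero]
  smul_mem' := fun p x hx => by
    induction p using MvPolynomial.induction_on' with
    | monomial e a =>
      intro i d hd
      rw [coeff_monomial_smul]
      split_ifs with h
      · rw [hx i (d - e) (by have := weight_sub_add w h; omega), mul_zero]
      · rfl
    | add p q hp hq =>
      intro i d hd
      rw [add_smul, Pi.add_apply, coeff_add, hp i d hd, hq i d hd, add_zero]

theorem mem_Jn {n : ℕ} {x : Mdl A s ν} :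
    x ∈ Jn w n ↔ ∀ i d, Finsupp.weight w d < n → coeff d (x i) = 0 := Iff.rfl

theorem Jn_zero : Jn w 0 = (⊤ : Submodule (MvPolynomial ν A) (Mdl A s ν)) :=
  eq_top_iff.2 fun _ _ _ _ h => absurd h (Nat.not_lt_zero _)

theorem Jn_le {m n : ℕ} (h : m ≤ n) : Jn (A := A) (s := s) w n ≤ Jn w m :=
  fun _ hx i d hd => hx i d (lt_of_lt_of_le hd h)

theorem mem_Jn_iff_lo {n : ℕ} {x : Mdl A s ν} : x ∈ Jn w n ↔ lo w n x = 0 := by
  refine ⟨fun h => mdl_ext fun i d => ?_, fun h i d hd => ?_⟩
  · rw [coeff_lo, Pi.zero_apply, coeff_zero]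
    split_ifs with hd
    · exact h i d hd
    · rfl
  · have := congrArg (fun y : Mdl A s ν => coeff d (y i)) h
    simpa [coeff_lo, hd] using this

theorem comp_mem_Jn (n : ℕ) (x : Mdl A s ν) : comp w n x ∈ Jn w n := fun i d hd => by
  rw [coeff_comp, if_neg (ne_of_lt hd)]

theorem comp_eq_zero_of_mem {n m : ℕ} (h : n < m) {x : Mdl A s ν} (hx : x ∈ Jn w m) : comp w n x = 0 :=
  mdl_ext fun i d => by
    rw [coeff_comp, Pi.zero_apply, coeff_zero]
    split_ifs with hd
    · exact hx i d (hd ▸ h)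
    · rfl

theorem mem_Jn_succ {n : ℕ} {x : Mdl A s ν} (hx : x ∈ Jn w n) (h : comp w n x = 0) : x ∈ Jn w (n + 1) := by
  intro i d hd
  rcases Nat.lt_succ_iff_lt_or_eq.1 hd with h' | h'
  · exact hx i d h'
  · have := congrArg (fun y : Mdl A s ν => coeff d (y i)) h
    simpa [coeff_comp, h'] using this

theorem comp_comp (m n : ℕ) (x : Mdl A s ν) : comp w m (comp w n x) = if m = n then comp w n x else 0 := by
  refine mdl_ext fun i d => ?_
  rw [coeff_comp, coeff_comp]
  by_cases hmn : m = n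
  · subst hmn
    rw [if_pos rfl, coeff_comp]
    split_ifs <;> rfl
  · rw [if_neg hmn, Pi.zero_apply, coeff_zero]
    split_ifs <;> first | rfl | omega

theorem comp_monomial_smul (n : ℕ) (e : ν →₀ ℕ) (a : A) (x : Mdl A s ν) :
    comp w n (monomial e a • x) =
      if Finsupp.weight w e ≤ n then monomial e a • comp w (n - Finsupp.weight w e) x else 0 := by
  refine mdl_ext fun i d => ?_
  rw [coeff_comp, coeff_monomial_smul]
  by_cases hen : Finsupp.weight w e ≤ n
  · rw [if_pos hen, coeff_monomial_smul]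
    by_cases hed : e ≤ d
    · have := weight_sub_add w hed
      rw [if_pos hed, if_pos hed, coeff_comp, mul_ite, mul_zero]
      exact if_congr (by omega) rfl rfl
    · rw [if_neg hed, if_neg hed, ite_self]
  · rw [if_neg hen, Pi.zero_apply, coeff_zero]
    by_cases hed : e ≤ d
    · have := weight_sub_add w hed
      rw [if_neg (by omega)]
    · rw [if_neg hed, ite_self]

theorem monomial_smul_mem_Jn {n : ℕ} (e : ν →₀ ℕ) (a : A) {x : Mdl A s ν} (hx : x ∈ Jn w n) :
    monomial e a • x ∈ Jn w (n + Finsupp.weight w e) := fun i d hd => by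
  rw [coeff_monomial_smul]
  split_ifs with h
  · rw [hx i (d - e) (by have := weight_sub_add w h; omega), mul_zero]
  · rfl

theorem lo_eq_self_of_lt {n : ℕ} {x : Mdl A s ν}
    (h : ∀ i, ∀ d ∈ (x i).support, Finsupp.weight w d < n) : lo w n x = x :=
  mdl_ext fun i d => by
    rw [coeff_lo]
    by_cases hd : coeff d (x i) = 0
    · simp [hd]
    · rw [if_pos (h i d (MvPolynomial.mem_support_iff.2 hd))]

theorem exists_bound (x : Mdl A s ν) : ∃ n, ∀ m ≥ n, lo w m x = x := by
  classical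
  refine ⟨(Finset.univ.biUnion fun i => (x i).support).sup (fun d => Finsupp.weight w d) + 1,
    fun m hm => lo_eq_self_of_lt w fun i d hd => ?_⟩
  refine lt_of_lt_of_le (Nat.lt_succ_of_le ?_) hm
  exact Finset.le_sup (f := fun d => Finsupp.weight w d) (Finset.mem_biUnion.2 ⟨i, Finset.mem_univ i, hd⟩)

theorem sub_lo_mem (n : ℕ) (x : Mdl A s ν) : x - lo w n x ∈ Jn w n := fun i d hd => by
  rw [Pi.sub_apply, coeff_sub, coeff_lo, if_pos hd, sub_self]

/-! ### Homogeneous submodules -/

/-- Homogeneous submodules. -/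
def Hom (H : Submodule (MvPolynomial ν A) (Mdl A s ν)) : Prop := ∀ x ∈ H, ∀ n, comp w n x ∈ H

theorem Hom.lo_mem {H : Submodule (MvPolynomial ν A) (Mdl A s ν)} (hH : Hom w H) (n : ℕ) {x : Mdl A s ν}
    (hx : x ∈ H) : lo w n x ∈ H := by
  rw [lo, LinearMap.sum_apply]
  exact sum_mem fun j _ => hH x hx j

theorem hom_span {S : Set (Mdl A s ν)} (hS : ∀ x ∈ S, ∀ n, comp w n x ∈ Submodule.span (MvPolynomial ν A) S) :
    Hom w (Submodule.span (MvPolynomial ν A) S) := by
  intro x hx
  induction hx using Submodule.span_induction with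
  | mem x hx => exact hS x hx
  | zero => intro n; rw [map_zero]; exact zero_mem _
  | add x y _ _ hx hy => intro n; rw [map_add]; exact add_mem (hx n) (hy n)
  | smul p x _ hx =>
    induction p using MvPolynomial.induction_on' with
    | monomial e a =>
      intro n
      rw [comp_monomial_smul]
      split_ifs
      · exact Submodule.smul_mem _ _ (hx _)
      · exact zero_mem _
    | add p q hp hq =>
      intro n
      rw [add_smul, map_add]
      exact add_mem (hp n) (hq n)

/-! ### Leading submodules -/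

/-- The leading submodule in weight `n`, together with the higher weights. -/
def Ld (K : Submodule (MvPolynomial ν A) (Mdl A s ν)) (n : ℕ) : Submodule (MvPolynomial ν A) (Mdl A s ν) :=
  K ⊓ Jn w n ⊔ Jn w (n + 1)

variable {K H : Submodule (MvPolynomial ν A) (Mdl A s ν)}

theorem mem_Ld {n : ℕ} {x : Mdl A s ν} :
    x ∈ Ld w K n ↔ x ∈ Jn w n ∧ ∃ k ∈ K ⊓ Jn w n, comp w n k = comp w n x := by
  constructor
  · intro hx
    obtain ⟨k, hk, j, hj, rfl⟩ := Submodule.mem_sup.1 hx
    refine ⟨add_mem hk.2 (Jn_le w (Nat.le_succ n) hj), k, hk, ?_⟩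
    rw [map_add, comp_eq_zero_of_mem w (Nat.lt_succ_self n) hj, add_zero]
  · rintro ⟨hx, k, hk, he⟩
    rw [show x = k + (x - k) by abel]
    exact add_mem (Submodule.mem_sup_left hk) (Submodule.mem_sup_right
      (mem_Jn_succ w (sub_mem hx hk.2) (by rw [map_sub, he, sub_self])))

theorem Ld_le_Jn (n : ℕ) : Ld w K n ≤ Jn w n := sup_le inf_le_right (Jn_le w (Nat.le_succ n))

theorem Jn_succ_le_Ld (n : ℕ) : Jn w (n + 1) ≤ Ld w K n := le_sup_right

theorem inf_sup_eq_Ld (n : ℕ) : Jn w n ⊓ (K ⊔ Jn w (n + 1)) = Ld w K n := by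
  rw [inf_comm, sup_comm, sup_inf_assoc_of_le K (Jn_le w (Nat.le_succ n)), sup_comm, Ld]

/-- The submodule spanned by the leading forms of weight at most `N`. -/
def Hd (N : ℕ) (K : Submodule (MvPolynomial ν A) (Mdl A s ν)) : Submodule (MvPolynomial ν A) (Mdl A s ν) :=
  Submodule.span _ (⋃ d ≤ N, comp w d '' ((K ⊓ Jn w d : Submodule _ _) : Set (Mdl A s ν)))

theorem comp_mem_Hd {N d : ℕ} (hd : d ≤ N) {k : Mdl A s ν} (hk : k ∈ K ⊓ Jn w d) : comp w d k ∈ Hd w N K :=
  Submodule.subset_span (Set.mem_iUnion₂.2 ⟨d, hd, k, hk, rfl⟩)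

theorem Hd_hom (N : ℕ) (K : Submodule (MvPolynomial ν A) (Mdl A s ν)) : Hom w (Hd w N K) := by
  refine hom_span w fun x hx n => ?_
  obtain ⟨d, hd, k, hk, rfl⟩ := Set.mem_iUnion₂.1 hx
  rw [comp_comp]
  split_ifs
  · exact comp_mem_Hd w hd hk
  · exact zero_mem _

theorem exists_comp_eq_of_mem_Hd {N : ℕ} {x : Mdl A s ν} (hx : x ∈ Hd w N K) :
    ∀ n, ∃ k ∈ K ⊓ Jn w n, comp w n k = comp w n x := by
  induction hx using Submodule.span_induction with
  | mem x hx =>
    obtain ⟨d, -, k, hk, rfl⟩ := Set.mem_iUnion₂.1 hx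
    intro n
    rw [comp_comp]
    by_cases h : n = d
    · subst h
      rw [if_pos rfl]
      exact ⟨k, hk, rfl⟩
    · rw [if_neg h]
      exact ⟨0, zero_mem _, map_zero _⟩
  | zero => exact fun n => ⟨0, zero_mem _, rfl⟩
  | add x y _ _ hx hy =>
    intro n
    obtain ⟨a, ha, hax⟩ := hx n
    obtain ⟨b, hb, hby⟩ := hy n
    exact ⟨a + b, add_mem ha hb, by rw [map_add, map_add, hax, hby]⟩
  | smul p x _ hx =>
    induction p using MvPolynomial.induction_on' with
    | monomial e a =>
      intro n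
      rw [comp_monomial_smul]
      split_ifs with h
      · obtain ⟨k, hk, hkx⟩ := hx (n - Finsupp.weight w e)
        refine ⟨monomial e a • k, ⟨Submodule.smul_mem _ _ hk.1, ?_⟩, ?_⟩
        · have := monomial_smul_mem_Jn w e a hk.2
          rwa [Nat.sub_add_cancel h] at this
        · rw [comp_monomial_smul, if_pos h, hkx]
      · exact ⟨0, zero_mem _, map_zero _⟩
    | add p q hp hq =>
      intro n
      obtain ⟨a, ha, hax⟩ := hp n
      obtain ⟨b, hb, hby⟩ := hq n
      exact ⟨a + b, add_mem ha hb, by rw [add_smul, map_add, map_add, hax, hby]⟩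

theorem Ld_Hd_le (N n : ℕ) : Ld w (Hd w N K) n ≤ Ld w K n := fun x hx => by
  obtain ⟨hxJ, h, hh, he⟩ := (mem_Ld w).1 hx
  obtain ⟨k, hk, hkh⟩ := exists_comp_eq_of_mem_Hd w hh.1 n
  exact (mem_Ld w).2 ⟨hxJ, k, hk, hkh.trans he⟩

theorem Ld_Hd_of_le {N n : ℕ} (h : n ≤ N) : Ld w (Hd w N K) n = Ld w K n := by
  refine le_antisymm (Ld_Hd_le w N n) fun x hx => ?_
  obtain ⟨hxJ, k, hk, he⟩ := (mem_Ld w).1 hx
  exact (mem_Ld w).2 ⟨hxJ, comp w n k, ⟨comp_mem_Hd w h hk, comp_mem_Jn w n k⟩,
    by rw [comp_comp, if_pos rfl, he]⟩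

/-- The ideal of the variables of weight one. -/
noncomputable def Iw : Ideal (MvPolynomial ν A) := Ideal.span (X '' {v | w v = 1})

theorem Iw_smul_Jn_le (n : ℕ) : Iw (A := A) w • Jn (A := A) (s := s) w n ≤ Jn (A := A) (s := s) w (n + 1) := by
  refine Submodule.smul_le.2 fun r hr x hx => ?_
  induction hr using Submodule.span_induction with
  | mem r hr =>
    obtain ⟨v, hv, rfl⟩ := hr
    have h := monomial_smul_mem_Jn w (Finsupp.single v 1) (1 : A) hx
    rwa [Finsupp.weight_single, one_smul, show w v = 1 from hv] at h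
  | zero => rw [zero_smul]; exact zero_mem _
  | add a b _ _ ha hb => rw [add_smul]; exact add_mem ha hb
  | smul c a _ ha => rw [smul_assoc]; exact Submodule.smul_mem _ c ha

/-- Generation of the leading submodules from the previous weight. -/
def Gen (K : Submodule (MvPolynomial ν A) (Mdl A s ν)) (n : ℕ) : Prop :=
  Ld w K (n + 1) ≤ Iw (A := A) w • Ld w K n ⊔ Jn w (n + 2)

theorem Ld_Hd {N : ℕ} (hgen : ∀ n ≥ N, Gen w K n) (n : ℕ) : Ld w (Hd w N K) n = Ld w K n := by
  induction n with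
  | zero => exact Ld_Hd_of_le w (Nat.zero_le N)
  | succ n ih =>
    rcases le_or_gt (n + 1) N with h | h
    · exact Ld_Hd_of_le w h
    refine le_antisymm (Ld_Hd_le w N (n + 1)) ((hgen n (by omega)).trans (sup_le ?_ (Jn_succ_le_Ld w (n + 1))))
    rw [← ih, Ld, Submodule.smul_sup]
    refine sup_le (le_trans (le_inf ?_ ?_) le_sup_left) ((Iw_smul_Jn_le w (n + 1)).trans le_sup_right)
    · exact Submodule.smul_le_right.trans inf_le_left
    · exact (Submodule.smul_mono le_rfl inf_le_right).trans (Iw_smul_Jn_le w n)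

/-! ### Flatness of truncations -/

/-- Flatness of all the truncations. -/
def TFlat (K : Submodule (MvPolynomial ν A) (Mdl A s ν)) : Prop :=
  ∀ n, Module.Flat A (Mdl A s ν ⧸ (K ⊔ Jn w n))

/-- The graded pieces of the quotient. -/
abbrev Piece (K : Submodule (MvPolynomial ν A) (Mdl A s ν)) (n : ℕ) : Type u :=
  Jn (A := A) (s := s) w n ⧸ (Ld w K n).comap (Jn w n).subtype

theorem exists_piece_seq (n : ℕ) :
    ∃ (i : Piece w K n →ₗ[A] Mdl A s ν ⧸ (K ⊔ Jn w (n + 1)))
      (v : Mdl A s ν ⧸ (K ⊔ Jn w (n + 1)) →ₗ[A] Mdl A s ν ⧸ (K ⊔ Jn w n)),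
      Function.Injective i ∧ Function.Exact i v ∧ Function.Surjective v :=
  exists_sub_seq A K (Jn w n) (Jn w (n + 1)) (Ld w K n) (Jn_le w (Nat.le_succ n)) (inf_sup_eq_Ld w n).symm

theorem flat_piece {n : ℕ} (h : Module.Flat A (Mdl A s ν ⧸ (K ⊔ Jn w n)))
    (h' : Module.Flat A (Mdl A s ν ⧸ (K ⊔ Jn w (n + 1)))) : Module.Flat A (Piece w K n) := by
  obtain ⟨i, v, hi, hiv, hv⟩ := exists_piece_seq w (K := K) n
  exact flat_kernel i v hi hiv hv

theorem tflat_upTo_of_piece (N : ℕ) (h : ∀ n < N, Module.Flat A (Piece w K n)) :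
    ∀ n ≤ N, Module.Flat A (Mdl A s ν ⧸ (K ⊔ Jn w n)) := by
  intro n
  induction n with
  | zero =>
    intro _
    haveI : Subsingleton (Mdl A s ν ⧸ (K ⊔ Jn w 0)) := by
      rw [Submodule.Quotient.subsingleton_iff, Jn_zero, sup_top_eq]
    infer_instance
  | succ n ih =>
    intro hn
    obtain ⟨i, v, hi, hiv, hv⟩ := exists_piece_seq w (K := K) n
    haveI := h n hn
    haveI := ih (by omega)
    exact FlatCrit.flat_of_extension i v hi hiv hv

theorem tflat_of_piece (h : ∀ n, Module.Flat A (Piece w K n)) : TFlat w K :=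
  fun n => tflat_upTo_of_piece w n (fun m _ => h m) n le_rfl

theorem TFlat.congr (h : ∀ n, Ld w K n = Ld w H n) (hK : TFlat w K) : TFlat w H :=
  tflat_of_piece w fun n => by
    have h1 := flat_piece w (hK n) (hK (n + 1))
    show Module.Flat A (Jn (A := A) (s := s) w n ⧸ (Ld w H n).comap (Jn w n).subtype)
    rw [← h n]
    exact h1

theorem flat_quotient_Jn (n : ℕ) : Module.Flat A (Mdl A s ν ⧸ Jn w n) := by
  let q := (Jn (A := A) (s := s) w n).restrictScalars A
  let i : (Mdl A s ν ⧸ q) →ₗ[A] Mdl A s ν := q.liftQ (lo w n) fun x hx => (mem_Jn_iff_lo w).1 hx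
  have h : Module.Flat A (Mdl A s ν ⧸ q) := Module.Flat.of_retract i q.mkQ <| LinearMap.ext fun y => by
    obtain ⟨y, rfl⟩ := Submodule.Quotient.mk_surjective _ y
    refine ((Submodule.Quotient.eq q).2 ?_).symm
    exact sub_lo_mem w n y
  exact Module.Flat.of_linearEquiv (Submodule.Quotient.restrictScalarsEquiv A (Jn (A := A) (s := s) w n)).symm

theorem flat_quotient_Ld {n : ℕ} (h : Module.Flat A (Mdl A s ν ⧸ (K ⊔ Jn w n)))
    (h' : Module.Flat A (Mdl A s ν ⧸ (K ⊔ Jn w (n + 1)))) : Module.Flat A (Mdl A s ν ⧸ Ld w K n) := by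
  haveI := flat_piece w h h'
  haveI := flat_quotient_Jn (A := A) (s := s) w n
  exact flat_quotient_of_le A (Ld w K n) (Jn w n) (Ld_le_Jn w n)

theorem flat_quotient_sup_Jn_of_hom (hH : Hom w H) [Module.Flat A (Mdl A s ν ⧸ H)] : TFlat w H := by
  intro n
  let q := (H ⊔ Jn w n).restrictScalars A
  let i : (Mdl A s ν ⧸ q) →ₗ[A] Mdl A s ν ⧸ H :=
    q.liftQ (H.mkQ.restrictScalars A ∘ₗ lo w n) fun x hx => by
      obtain ⟨h, hh, j, hj, rfl⟩ := Submodule.mem_sup.1 (show x ∈ H ⊔ Jn w n from hx)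
      show Submodule.Quotient.mk (lo w n (h + j)) = 0
      rw [map_add, (mem_Jn_iff_lo w).1 hj, add_zero, Submodule.Quotient.mk_eq_zero]
      exact hH.lo_mem w n hh
  let r : (Mdl A s ν ⧸ H) →ₗ[A] Mdl A s ν ⧸ q :=
    (H.restrictScalars A).liftQ q.mkQ (fun x hx => (Submodule.Quotient.mk_eq_zero q).2 (Submodule.mem_sup_left hx))
      ∘ₗ (Submodule.Quotient.restrictScalarsEquiv A H).symm.toLinearMap
  have h : Module.Flat A (Mdl A s ν ⧸ q) := Module.Flat.of_retract i r <| LinearMap.ext fun y => by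
    obtain ⟨y, rfl⟩ := Submodule.Quotient.mk_surjective _ y
    refine ((Submodule.Quotient.eq q).2 (Submodule.mem_sup_right ?_)).symm
    exact sub_lo_mem w n y
  exact Module.Flat.of_linearEquiv (Submodule.Quotient.restrictScalarsEquiv A (H ⊔ Jn w n)).symm

theorem flat_of_hom_of_tflat (hH : Hom w H) (hT : TFlat w H) : Module.Flat A (Mdl A s ν ⧸ H) := by
  have hfl : Module.Flat A (Mdl A s ν ⧸ H.restrictScalars A) := by
    refine Module.Flat.iff_lTensor_injective.mpr fun a _ => (injective_iff_map_eq_zero _).2 fun z hz => ?_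
    let q := H.restrictScalars A
    let ℓ : ℕ → ((Mdl A s ν ⧸ q) →ₗ[A] Mdl A s ν ⧸ q) := fun n =>
      q.liftQ (q.mkQ ∘ₗ lo w n) fun x hx => (Submodule.Quotient.mk_eq_zero q).2 (hH.lo_mem w n hx)
    have key : ∀ z : (Mdl A s ν ⧸ q) ⊗[A] a, ∃ n, ∀ m ≥ n, LinearMap.rTensor a (ℓ m) z = z := fun z => by
      induction z using TensorProduct.induction_on with
      | zero => exact ⟨0, fun m _ => map_zero _⟩
      | tmul x b =>
        obtain ⟨x, rfl⟩ := Submodule.Quotient.mk_surjective _ x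
        obtain ⟨n, hn⟩ := exists_bound w x
        refine ⟨n, fun m hm => ?_⟩
        show Submodule.Quotient.mk (lo w m x) ⊗ₜ b = _
        rw [hn m hm]
      | add x y hx hy =>
        obtain ⟨m, hm⟩ := hx
        obtain ⟨n, hn⟩ := hy
        exact ⟨max m n, fun j hj => by rw [map_add, hm j (le_trans (le_max_left _ _) hj),
          hn j (le_trans (le_max_right _ _) hj)]⟩
    obtain ⟨n, hn⟩ := key z
    let qn := (H ⊔ Jn w n).restrictScalars A
    haveI : Module.Flat A (Mdl A s ν ⧸ qn) :=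
      haveI := hT n
      Module.Flat.of_linearEquiv (Submodule.Quotient.restrictScalarsEquiv A (H ⊔ Jn w n))
    let π : (Mdl A s ν ⧸ q) →ₗ[A] Mdl A s ν ⧸ qn := Submodule.factor fun x hx => Submodule.mem_sup_left hx
    let i : (Mdl A s ν ⧸ qn) →ₗ[A] Mdl A s ν ⧸ q := qn.liftQ (q.mkQ ∘ₗ lo w n) fun x hx => by
      obtain ⟨h, hh, j, hj, rfl⟩ := Submodule.mem_sup.1 (show x ∈ H ⊔ Jn w n from hx)
      show Submodule.Quotient.mk (lo w n (h + j)) = 0
      rw [map_add, (mem_Jn_iff_lo w).1 hj, add_zero]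
      exact (Submodule.Quotient.mk_eq_zero q).2 (hH.lo_mem w n hh)
    have hiπ : i ∘ₗ π = ℓ n := LinearMap.ext fun y => by
      obtain ⟨y, rfl⟩ := Submodule.Quotient.mk_surjective _ y
      rfl
    have h0 : LinearMap.rTensor a π z = 0 := by
      refine Module.Flat.lTensor_preserves_injective_linearMap (M := Mdl A s ν ⧸ qn) a.subtype a.injective_subtype ?_
      rw [map_zero, ← LinearMap.comp_apply, LinearMap.lTensor_comp_rTensor, ← LinearMap.rTensor_comp_lTensor,
        LinearMap.comp_apply, hz, map_zero]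
    rw [← hn n le_rfl, ← hiπ, LinearMap.rTensor_comp, LinearMap.comp_apply, h0, map_zero]
  exact Module.Flat.of_linearEquiv (Submodule.Quotient.restrictScalarsEquiv A H).symm

end GrFlatLib
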